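/-
A criterion excluding sections with an element x of prime order l conjugate to x^c: a subgroup T contains a
Sylow l-subgroup, the e-th power of whatever normalises a subgroup of T centralises it, and c^e is not 1
modulo l. Alternating groups: cycles and multiplication on their points.
-/
import Mathlib

set_option autoImplicit false

namespace Cfsg.Agent.AltSection

variable {G : Type*} [Group G] [Finite G]

theorem no_conj_pair {ℓ : ℕ} [Fact ℓ.Prime] {c₀ e₀ : ℕ} (hne : ¬ c₀ ^ e₀ ≡ 1 [MOD ℓ])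
    {T : Subgroup G}
    (hT : ¬ ℓ ∣ T.index)
    (hfus : ∀ g : G, ∀ P ≤ T, (∀ z ∈ P, g * z * g⁻¹ ∈ P) → ∀ z ∈ P, g ^ e₀ * z * (g ^ e₀)⁻¹ = z)
    {H : Subgroup G} {A : Type*} [Group A] (φ : H →* A) (hφ : Function.Surjective φ) {x y : A}
    (hx : x ≠ 1) (h7 : x ^ ℓ = 1) (hc : y * x * y⁻¹ = x ^ c₀) : False := by
  classical
  have hℓ : ℓ.Prime := Fact.out
  set M : Subgroup H := (Subgroup.zpowers x).comap φ with hM
  obtain ⟨P⟩ : Nonempty (Sylow ℓ M) := inferInstance
  obtain ⟨v, hv⟩ := hφ y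
  obtain ⟨w, hw⟩ := hφ x
  -- an element of `P` over `x`
  obtain ⟨z, hzP, hz⟩ : ∃ z : M, z ∈ (P : Subgroup M) ∧ φ (z : H) = x := by
    have hwM : w ∈ M := by show φ w ∈ Subgroup.zpowers x; rw [hw]; exact Subgroup.mem_zpowers x
    set w' : M := ⟨w, hwM⟩ with hw'
    set n := orderOf w' with hn
    have hn0 : n ≠ 0 := (orderOf_pos w').ne'
    set a := ℓ ^ n.factorization ℓ with ha
    set b := n / a with hb
    have hab : a * b = n := Nat.ordProj_mul_ordCompl_eq_self n ℓ
    have hcop : Nat.Coprime ℓ b := Nat.coprime_ordCompl hℓ hn0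
    obtain ⟨i, hi⟩ : ∃ i, (b * i) % ℓ = 1 := by
      obtain ⟨i, hi⟩ := Nat.exists_mul_mod_eq_one_of_coprime hcop.symm hℓ.one_lt
      exact ⟨i, hi.2⟩
    have hp : IsPGroup ℓ (Subgroup.zpowers (w' ^ (b * i))) := by
      refine IsPGroup.of_card_dvd_pow (n := n.factorization ℓ) ?_
      rw [Nat.card_zpowers]
      refine orderOf_dvd_of_pow_eq_one ?_
      rw [← pow_mul, show b * i * a = n * i by rw [← hab]; ring, pow_mul, hn, pow_orderOf_eq_one, one_pow]
    obtain ⟨Q, hQ⟩ := hp.exists_le_sylow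
    obtain ⟨c, hcQ⟩ := MulAction.exists_smul_eq M Q P
    refine ⟨c * w' ^ (b * i) * c⁻¹, ?_, ?_⟩
    · rw [← hcQ]
      exact Subgroup.smul_mem_pointwise_smul _ (MulAut.conj c) (Q : Subgroup M)
        (hQ (Subgroup.mem_zpowers _))
    · obtain ⟨j, hj⟩ := Subgroup.mem_zpowers_iff.1 (show φ (c : H) ∈ Subgroup.zpowers x from c.2)
      have hx1 : x ^ (b * i) = x := by
        conv_lhs => rw [← Nat.div_add_mod (b * i) ℓ, pow_add, pow_mul, h7, one_pow, hi, one_mul, pow_one]
      simp only [Subgroup.coe_mul, Subgroup.coe_pow, Subgroup.coe_inv, map_mul, map_pow, map_inv, hw', hw,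
        hx1]
      rw [← hj, (Commute.zpow_self x j).eq]
      group
  -- an element over `y` times a power of `x` normalising `P`
  obtain ⟨g, j, hgP, hgy⟩ : ∃ g : H, ∃ j : ℤ, (∀ s : M, s ∈ (P : Subgroup M) → ∃ s' : M,
      s' ∈ (P : Subgroup M) ∧ g * s * g⁻¹ = s') ∧ φ g = x ^ j * y := by
    have hvM : ∀ s ∈ M, v * s * v⁻¹ ∈ M := by
      intro s hs
      obtain ⟨j, hj⟩ := Subgroup.mem_zpowers_iff.1 (show φ s ∈ Subgroup.zpowers x from hs)
      show φ _ ∈ Subgroup.zpowers x
      rw [map_mul, map_mul, map_inv, hv, ← hj, ← conj_zpow, hc]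
      exact Subgroup.zpow_mem _ (Subgroup.pow_mem _ (Subgroup.mem_zpowers x) _) _
    let e : M →* M := {
      toFun := fun s => ⟨v * s * v⁻¹, hvM _ s.2⟩
      map_one' := Subtype.ext (by simp)
      map_mul' := fun a b => Subtype.ext (by simp only [Subgroup.coe_mul]; group) }
    have he : Function.Injective e := fun a b h => by
      have := congrArg Subtype.val h
      exact Subtype.ext (mul_left_cancel (mul_right_cancel this))
    have hcard : Nat.card ((P : Subgroup M).map e) = Nat.card (P : Subgroup M) :=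
      Subgroup.card_map_of_injective he
    have hp : IsPGroup ℓ ((P : Subgroup M).map e) := P.isPGroup'.map e
    obtain ⟨Q, hQ⟩ := hp.exists_le_sylow
    have hQe : (P : Subgroup M).map e = Q :=
      Subgroup.eq_of_le_of_card_ge hQ (by rw [hcard, Sylow.card_eq_multiplicity, Sylow.card_eq_multiplicity])
    obtain ⟨c, hcQ⟩ := MulAction.exists_smul_eq M Q P
    obtain ⟨j, hj⟩ := Subgroup.mem_zpowers_iff.1 (show φ (c : H) ∈ Subgroup.zpowers x from c.2)
    refine ⟨(c : H) * v, j, fun s hs => ⟨c * e s * c⁻¹, ?_, ?_⟩, by rw [map_mul, hv, hj]⟩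
    · rw [← hcQ]
      exact Subgroup.smul_mem_pointwise_smul _ (MulAut.conj c) (Q : Subgroup M)
        (hQe ▸ Subgroup.mem_map_of_mem e hs)
    · show _ = ((c * e s * c⁻¹ : M) : H)
      simp only [Subgroup.coe_mul, Subgroup.coe_inv, e, MonoidHom.coe_mk, OneHom.coe_mk]
      group
  -- move into `T`
  obtain ⟨R⟩ : Nonempty (Sylow ℓ T) := inferInstance
  set P' : Subgroup G := (P : Subgroup M).map (H.subtype.comp M.subtype) with hP'
  have hP'p : IsPGroup ℓ P' := P.isPGroup'.map _
  have hR' : IsPGroup ℓ ((R : Subgroup T).map T.subtype) := R.isPGroup'.map _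
  obtain ⟨S, hS⟩ := hP'p.exists_le_sylow
  obtain ⟨S', hS'⟩ := hR'.exists_le_sylow
  have hS'eq : (R : Subgroup T).map T.subtype = S' := by
    refine Subgroup.eq_of_le_of_card_ge hS' ?_
    rw [Subgroup.card_map_of_injective T.subtype_injective, Sylow.card_eq_multiplicity,
      Sylow.card_eq_multiplicity]
    refine Nat.pow_le_pow_right hℓ.pos (le_of_eq ?_)
    rw [← Subgroup.card_mul_index T, Nat.factorization_mul Nat.card_pos.ne' Subgroup.index_ne_zero_of_finite,
      Finsupp.add_apply, Nat.factorization_eq_zero_of_not_dvd hT, add_zero]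
  obtain ⟨c, hc'⟩ := MulAction.exists_smul_eq G S S'
  set P'' := P'.map (MulAut.conj c).toMonoidHom with hP''
  have hP''T : P'' ≤ T := by
    rintro _ ⟨s, hs, rfl⟩
    have h1 : MulAut.conj c • s ∈ (S' : Subgroup G) := by
      rw [← hc', Sylow.coe_subgroup_smul]
      exact Subgroup.smul_mem_pointwise_smul _ (MulAut.conj c) _ (hS hs)
    rw [← hS'eq] at h1
    obtain ⟨t, -, ht⟩ := h1
    have h2 : (MulAut.conj c).toMonoidHom s = (t : G) := ht.symm
    rw [h2]; exact t.2
  set G' := c * (g : G) * c⁻¹ with hG'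
  have hnorm : ∀ s ∈ P'', G' * s * G'⁻¹ ∈ P'' := by
    rintro _ ⟨_, ⟨s, hs, rfl⟩, rfl⟩
    obtain ⟨s', hs', e⟩ := hgP s hs
    refine ⟨((s' : H) : G), ⟨s', hs', rfl⟩, ?_⟩
    have := congrArg Subtype.val e
    simp only [Subgroup.coe_mul, Subgroup.coe_inv] at this
    simp only [MulEquiv.coe_toMonoidHom, MulAut.conj_apply, MonoidHom.coe_comp, Function.comp_apply,
      Subgroup.coe_subtype, hG', ← this]
    group
  have key := hfus G' P'' hP''T hnorm _ (Subgroup.mem_map_of_mem (MulAut.conj c).toMonoidHom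
    (Subgroup.mem_map_of_mem (H.subtype.comp M.subtype) hzP))
  have key' : g ^ e₀ * (z : H) * (g ^ e₀)⁻¹ = (z : H) := by
    apply Subtype.ext
    simp only [Subgroup.coe_mul, Subgroup.coe_pow, Subgroup.coe_inv]
    simp only [MulEquiv.coe_toMonoidHom, MulAut.conj_apply, MonoidHom.coe_comp, Function.comp_apply,
      Subgroup.coe_subtype, hG', conj_pow] at key
    refine mul_left_cancel (a := c) (mul_right_cancel (b := c⁻¹) ?_)
    conv_rhs => rw [← key]
    group
  have key2 : (x ^ j * y) ^ e₀ * x * ((x ^ j * y) ^ e₀)⁻¹ = x := by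
    have := congrArg φ key'
    simpa [map_mul, map_pow, map_inv, hz, hgy] using this
  have iter : ∀ e : ℕ, (x ^ j * y) ^ e * x * ((x ^ j * y) ^ e)⁻¹ = x ^ c₀ ^ e := by
    intro e
    induction e with
    | zero => simp
    | succ e ih =>
      have assoc : ∀ a b t : A, a * b * t * (a * b)⁻¹ = a * (b * t * b⁻¹) * a⁻¹ := fun a b t => by group
      rw [pow_succ', assoc, ih, ← conj_pow]
      have h2 : (x ^ j * y) * x * (x ^ j * y)⁻¹ = x ^ c₀ := by
        rw [show (x ^ j * y) * x * (x ^ j * y)⁻¹ = x ^ j * (y * x * y⁻¹) * (x ^ j)⁻¹ by group, hc,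
          (((Commute.refl x).pow_right c₀).zpow_left j).eq]
        group
      rw [h2, ← pow_mul]
      ring_nf
  rw [iter] at key2
  have hord : orderOf x = ℓ := orderOf_eq_prime h7 hx
  have h1 : x ^ c₀ ^ e₀ = x ^ 1 := by rw [pow_one]; exact key2
  rw [pow_eq_pow_iff_modEq, hord] at h1
  exact hne h1

/-- `Fin k` as the first `k` points. -/
def firstPts {k r : ℕ} (hr : k ≤ r) : Fin k ≃ {i : Fin r // i.val < k} where
  toFun i := ⟨⟨i.val, lt_of_lt_of_le i.2 hr⟩, i.2⟩
  invFun i := ⟨i.1.val, i.2⟩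
  left_inv _ := rfl
  right_inv _ := rfl

/-- A smaller alternating group inside a larger one. -/
def altHom {k r : ℕ} (hr : k ≤ r) : alternatingGroup (Fin k) →* alternatingGroup (Fin r) :=
  ((Equiv.Perm.extendDomainHom (firstPts hr)).comp (alternatingGroup (Fin k)).subtype).codRestrict _ fun e =>
    Equiv.Perm.mem_alternatingGroup.2
      ((Equiv.Perm.sign_extendDomain (e : Equiv.Perm (Fin k)) (firstPts hr)).trans (Equiv.Perm.mem_alternatingGroup.1 e.2))

theorem altHom_injective {k r : ℕ} (hr : k ≤ r) : Function.Injective (altHom hr) := fun _ _ h =>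
  Subtype.ext (Equiv.Perm.extendDomainHom_injective _ (congrArg Subtype.val h))

/-- A section contains, with `A_r`, a section `A_k` for `k ≤ r`. -/
theorem exists_smaller {k r : ℕ} (hr : k ≤ r) (H : Subgroup G) (N : Subgroup H) [N.Normal]
    (h : Nonempty (H ⧸ N ≃* alternatingGroup (Fin r))) :
    ∃ (H' : Subgroup G) (φ : H' →* alternatingGroup (Fin k)), Function.Surjective φ := by
  obtain ⟨e⟩ := h
  set π : H →* alternatingGroup (Fin r) := e.toMonoidHom.comp (QuotientGroup.mk' N) with hπ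
  have hπs : Function.Surjective π := e.surjective.comp (QuotientGroup.mk'_surjective N)
  set K : Subgroup H := (altHom hr).range.comap π with hK
  let r' : (altHom hr).range ≃* alternatingGroup (Fin k) :=
    (MonoidHom.ofInjective (altHom_injective hr)).symm
  let i : K.map H.subtype ≃* K := (K.equivMapOfInjective _ H.subtype_injective).symm
  refine ⟨K.map H.subtype, (r'.toMonoidHom.comp ((π.comp K.subtype).codRestrict _ fun z => z.2)).comp
    i.toMonoidHom, (r'.surjective.comp ?_).comp i.surjective⟩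
  rintro ⟨a, ha⟩
  obtain ⟨z, rfl⟩ := hπs a
  exact ⟨⟨z, ha⟩, rfl⟩

end Cfsg.Agent.AltSection
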