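/-
Chevalley groups in the criterion for alternating sections: extension of the field, coprimality of U and the
torus, orders.
-/
import Cfsg.Agent.Lib.AltSection.General
import Cfsg.Agent.Lib.RootBN.Automiser
import Cfsg.Agent.Lib.Chev.FieldAutFixed
import Cfsg.Agent.Lib.Chev.Order
import Cfsg.Agent.Lib.Chev.Sylow

set_option autoImplicit false

namespace Cfsg.Agent.AltSection

open Cfsg.Lie Cfsg.Agent.Chev Cfsg.Agent.Chev.BNSetup

variable {D : ChevalleyDatum} (hG : Good D)
include hG

theorem entryMap_injective {R S : Type*} [Field R] [Field S] (f : R →+* S) :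
    Function.Injective (entryMap D f) := by
  have _ := hG
  intro a b h
  apply Units.ext
  ext i j
  exact f.injective (congrFun (congrFun (congrArg (fun u : GL D.Idx S => (u : Matrix D.Idx D.Idx S)) h) i) j)

theorem group_map_le {R S : Type*} [Field R] [Field S] (f : R →+* S) :
    (D.group R).map (entryMap D f) ≤ D.group S := by
  rw [group_eq_closure_xe hG, MonoidHom.map_closure, Subgroup.closure_le]
  rintro _ ⟨_, ⟨r, hr, t, rfl⟩, rfl⟩
  rw [entryMap_xe hG]
  exact xe_mem_group hG hr _

omit hG in
/-- An overgroup inherits sections. -/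
theorem exists_section_of_hom {G M : Type*} [Group G] [Group M] (φ : G →* M) (hφ : Function.Injective φ)
    {k r : ℕ} (hr : k ≤ r) [Finite G] (H : Subgroup G) (N : Subgroup H) [N.Normal]
    (h : Nonempty (H ⧸ N ≃* alternatingGroup (Fin r))) :
    ∃ (H' : Subgroup M) (ψ : H' →* alternatingGroup (Fin k)), Function.Surjective ψ := by
  obtain ⟨H', ψ, hψ⟩ := exists_smaller hr H N h
  exact ⟨H'.map φ, ψ.comp (H'.equivMapOfInjective φ hφ).symm.toMonoidHom,
    hψ.comp (H'.equivMapOfInjective φ hφ).symm.surjective⟩

/-- The group over a larger field. -/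
theorem exists_extension_section {F : Type*} [Field F] [Fintype F] (p : ℕ) [Fact p.Prime] [CharP F p]
    {n : ℕ} (hn : n ≠ 0) {k r : ℕ} (hr : k ≤ r) (H : Subgroup (D.group F)) (N : Subgroup H) [N.Normal]
    (h : Nonempty (H ⧸ N ≃* alternatingGroup (Fin r))) :
    ∃ (E : Type) (_ : Field E) (_ : Fintype E) (_ : CharP E p) (H' : Subgroup (data hG E).grp)
      (ψ : H' →* alternatingGroup (Fin k)), Fintype.card E = Fintype.card F ^ n ∧ Function.Surjective ψ := by
  haveI : NeZero n := ⟨hn⟩
  haveI : Algebra (ZMod p) F := ZMod.algebra F p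
  let E := FiniteField.Extension F p n
  haveI : Fintype E := Fintype.ofFinite E
  have hE : Fintype.card E = Fintype.card F ^ n := by
    rw [← Nat.card_eq_fintype_card, FiniteField.natCard_extension, Nat.card_eq_fintype_card]
  haveI : CharP E p := charP_of_injective_algebraMap (algebraMap F E).injective p
  let φ : D.group F →* (data hG E).grp := ((entryMap D (algebraMap F E)).comp (D.group F).subtype).codRestrict _
    fun x => by rw [data_grp]; exact group_map_le hG _ (Subgroup.mem_map_of_mem _ x.2)
  have hφ : Function.Injective φ := fun a b e =>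
    Subtype.ext (entryMap_injective hG _ (congrArg Subtype.val e))
  obtain ⟨H', ψ, hψ⟩ := exists_section_of_hom φ hφ hr H N h
  exact ⟨E, inferInstance, inferInstance, inferInstance, H', ψ, hE, hψ⟩

variable {F : Type*} [Field F] [Fintype F] {tabs simps : List ℕ} (hf : Facts D tabs simps)
include hf

theorem coprime_U_H (p : ℕ) [Fact p.Prime] [CharP F p] :
    (Nat.card (data hG F).U).Coprime (Nat.card (data hG F).H) := by
  obtain ⟨n, hn⟩ := IsPGroup.iff_card.1 (ChevSylow.isPGroup_posUnipotent p hG hf (F := F))
  rw [data_U hG hf, hn]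
  exact Nat.Coprime.pow_left _
    ((Fact.out : p.Prime).coprime_iff_not_dvd.2 (ChevSylow.not_dvd_card_diagonal p hG hf))

omit hf in
theorem H_comm : ∀ a ∈ (data hG F).H, ∀ b ∈ (data hG F).H, a * b = b * a := by
  intro a ha b hb
  change a ∈ D.diagonalSubgroup F at ha
  change b ∈ D.diagonalSubgroup F at hb
  rw [diagonal_eq_range hG] at ha hb
  obtain ⟨c, rfl⟩ := ha
  obtain ⟨d, rfl⟩ := hb
  exact ((Commute.all c d).map (torusHom F D)).eq

/-- The order in the shape of the index lemma, and the order of the Weyl group. -/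
theorem card_grp_levels (Ls : List RootBN.Level) (hLs : Ls.length = D.rank)
    (hok : RootBN.levelsOK D.nroots tabs simps 0 Ls = true) :
    Nat.card (data hG F).grp = Fintype.card F ^ (D.nroots / 2) * Nat.card (data hG F).H *
        RootBN.levelsPoly (Fintype.card F) Ls ∧
      (data hG F).weyl.card = RootBN.levelsPoly 1 Ls := by
  classical
  haveI : Finite (GL D.Idx F) := inferInstance
  have hsum := fun q => RootBN.Data.sum_weyl_of_levels (axioms (F := F) hG hf)
    (fun i s => ((hf.2.2.2.2.1 i.val i.2).2.2.2.1 s.val s.2).1) (fun _ => Iff.rfl)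
    (fun r => (hf.2.2.1 r.val r.2).1) (fun i => (hf.2.2.2.2.1 i.val i.2).1) hf.2.2.2.1 Ls hLs hok q
  refine ⟨?_, ?_⟩
  · have h := RootBN.Data.card_grp (axioms (F := F) hG hf) (q := Fintype.card F)
      (fun i => Chev.BNSetup.card_rootSubgroup hG hf (hG.simple_lt i.2))
    rw [data_B hG hf, Chev.BNSetup.card_borel hG hf, hsum] at h
    exact h
  · rw [← hsum 1]
    simp

end Cfsg.Agent.AltSection
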