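/-
The root values of pairs of elements of orders five and seven in a torus of type F₄: no pair is compatible with
doubling and tripling by one element of the Weyl group.
-/
import Cfsg.Agent.Lib.Chev.CheckF4

set_option autoImplicit false

namespace Cfsg.Agent.AltSection.F4

open Cfsg.Lie

/-- Coordinates of the roots in the fundamental roots. -/
def coefList : List (List ℤ) := [[-2, -4, -3, -2], [-2, -4, -3, -1], [-2, -4, -2, -1], [-2, -3, -2, -1], [-2, -2, -2, -1], [-2, -2, -1, -1], [-2, -2, -1, 0], [-1, -3, -2, -1], [-1, -2, -2, -1], [-1, -2, -1, -1], [-1, -2, -1, 0], [-1, -1, -1, -1], [-1, -1, -1, 0], [-1, -1, 0, 0], [-1, 0, 0, 0], [0, -2, -2, -1], [0, -2, -1, -1], [0, -2, -1, 0], [0, -1, -1, -1], [0, -1, -1, 0], [0, -1, 0, 0], [0, 0, -1, -1], [0, 0, -1, 0], [0, 0, 0, -1], [0, 0, 0, 1], [0, 0, 1, 0], [0, 0, 1, 1], [0, 1, 0, 0], [0, 1, 1, 0], [0, 1, 1, 1], [0, 2, 1, 0], [0, 2, 1, 1], [0, 2, 2, 1], [1, 0, 0, 0], [1, 1, 0,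 0], [1, 1, 1, 0], [1, 1, 1, 1], [1, 2, 1, 0], [1, 2, 1, 1], [1, 2, 2, 1], [1, 3, 2, 1], [2, 2, 1, 0], [2, 2, 1, 1], [2, 2, 2, 1], [2, 3, 2, 1], [2, 4, 2, 1], [2, 4, 3, 1], [2, 4, 3, 2]]

/-- A coordinate. -/
def coef (r k : ℕ) : ℤ := (coefList.getD r []).getD k 0

theorem coef_spec : ∀ r < chevF4.nroots, ∀ j : Fin chevF4.rank,
    (∑ k : Fin chevF4.rank, coef r k * chevF4.cartan j.val (chevF4.simple k.val)) = chevF4.cartan j.val r := by
  decide +kernel

/-- The coordinates modulo thirty-five, base sixty-four. -/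
def coefCode : ℕ := 1957379952601039309983155888656415629132468220689930306906108969250808052227439416060161924649048825138647300528487774608557123013394956278161756803425892861023290624426189245170879569764353193698396333721556511467240632961455712568593958101003204200424266691963307125297558852909854765697195293453131276363521802838724783135180886619911736395745

/-- The roots of one length. -/
def lenMask : ℕ := 19783560757128

/-- The value at `r` of the function with digits `a`, modulo `ℓ`. -/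
def lin (ℓ a r : ℕ) : ℕ :=
  (coefCode / 64 ^ (4 * r) % 64 * (a % ℓ) + coefCode / 64 ^ (4 * r + 1) % 64 * (a / ℓ % ℓ) +
    coefCode / 64 ^ (4 * r + 2) % 64 * (a / ℓ ^ 2 % ℓ) + coefCode / 64 ^ (4 * r + 3) % 64 * (a / ℓ ^ 3 % ℓ)) % ℓ

theorem coefCode_spec : ∀ r : Fin 48, ∀ k : Fin 4,
    coefCode / 64 ^ (4 * r.val + k.val) % 64 = (coef r.val k.val % 35).toNat := by decide +kernel

theorem len_invariant : ∀ i : Fin chevF4.rank, ∀ r : Fin chevF4.nroots,
    lenMask.testBit (chevF4.reflectRoot i.val r.val) = lenMask.testBit r.val := by decide +kernel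

/-- The roots of one length as a list. -/
def lenRoots : List ℕ := (List.range 48).filter fun r => lenMask.testBit r

/-- Whether the multiset of values on `rs` is invariant under multiplication by `m`. -/
def invVals (ℓ m : ℕ) (rs : List ℕ) (a : ℕ) : Bool :=
  (rs.map fun r => 32 ^ lin ℓ a r).sum == (rs.map fun r => 32 ^ (m * lin ℓ a r % ℓ)).sum

/-- The roots where a candidate modulo five vanishes. -/
def zeroSets : List (List ℕ) := [[3, 18, 29, 44], [3, 19, 28, 44], [3, 20, 27, 44], [7, 11, 36, 40], [7, 12, 35, 40], [7, 13, 34, 40], [8, 9, 38, 39], [8, 10, 37, 39], [8, 14, 33, 39], [9, 10, 37, 38], [9, 14, 33, 38], [10, 14, 33, 37], [11, 12, 35, 36], [11, 13, 34, 36], [12, 13, 34, 35], [18, 19, 28, 29], [18, 20, 27, 29], [19, 20, 27, 28]]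

/-- The candidates modulo seven. -/
def cand7 : List ℕ := [8, 10, 16, 20, 23, 24, 32, 33, 36, 40, 46, 48, 71, 72, 78, 83, 89, 90, 107, 110, 122, 124, 142, 144, 155, 158, 164, 167, 185, 186, 213, 214, 232, 235, 241, 244, 255, 257, 275, 277, 289, 292, 309, 310, 316, 321, 327, 328, 351, 352, 358, 363, 369, 370, 392, 396, 403, 423, 427, 430, 445, 446, 449, 453, 459, 461, 462, 470, 472, 478, 482, 485, 486, 499, 511, 516, 518, 520, 537, 541, 542, 550, 551, 554, 558, 564, 566, 567, 575, 577, 583, 587, 588, 591, 602, 606, 613, 633, 666, 667, 673, 678, 684, 685, 702, 704, 716, 719, 731, 733, 739, 741, 742, 750, 752, 758, 762, 765, 766, 774, 775, 778, 782, 784, 785, 797, 799, 805, 811, 833, 839, 861, 862, 874, 876, 883, 885, 891, 895, 898, 899, 907, 908, 911, 915, 921, 923, 924, 940, 942, 954, 957, 969, 971, 987, 991, 998, 1018, 1022, 1025, 1044, 1047, 1053, 1056, 1074, 1075, 1078, 1080, 1097, 1108, 1120, 1125, 1141, 1142, 1154, 1156,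 1162, 1168, 1176, 1181, 1183, 1185, 1202, 1213, 1235, 1236, 1254, 1257, 1263, 1266, 1276, 1280, 1283, 1284, 1292, 1293, 1296, 1300, 1306, 1308, 1309, 1317, 1319, 1324, 1328, 1334, 1336, 1337, 1345, 1347, 1353, 1357, 1360, 1361, 1369, 1370, 1382, 1383, 1401, 1404, 1410, 1413, 1423, 1427, 1430, 1431, 1439, 1440, 1443, 1447, 1453, 1455, 1456, 1464, 1466, 1471, 1475, 1481, 1483, 1484, 1492, 1494, 1500, 1504, 1507, 1508, 1516, 1517, 1534, 1537, 1543, 1546, 1564, 1565, 1568, 1570, 1587, 1598, 1610, 1615, 1631, 1632, 1644, 1646, 1652, 1658, 1666, 1671, 1673, 1675, 1692, 1703, 1724, 1726, 1738, 1741, 1753, 1755, 1771, 1775, 1782, 1802, 1806, 1809, 1829, 1831, 1843, 1846, 1858, 1860, 1866, 1868, 1869, 1877, 1879, 1885, 1889, 1892, 1893, 1901, 1902, 1905, 1909, 1911, 1912, 1924, 1926, 1932, 1938, 1960, 1966, 1988, 1989, 2001, 2003, 2010, 2012, 2018, 2022, 2025, 2026, 2034, 2035, 2038, 2042, 2048, 2050, 2051, 2087, 2088, 2094, 2099, 2105,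 2106, 2115, 2116, 2122, 2127, 2133, 2134, 2156, 2160, 2167, 2187, 2191, 2194, 2209, 2210, 2213, 2217, 2223, 2225, 2226, 2234, 2236, 2242, 2246, 2249, 2250, 2263, 2275, 2280, 2282, 2284, 2301, 2305, 2306, 2314, 2315, 2318, 2322, 2328, 2330, 2331, 2339, 2341, 2347, 2351, 2352, 2355, 2366, 2370, 2377, 2397]

/-- The coordinates of a root modulo thirty-five. -/
def rowOf (r : ℕ) : ℕ × ℕ × ℕ × ℕ :=
  (coefCode / 64 ^ (4 * r) % 64, coefCode / 64 ^ (4 * r + 1) % 64, coefCode / 64 ^ (4 * r + 2) % 64,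
    coefCode / 64 ^ (4 * r + 3) % 64)

/-- The rows of the roots of one length. -/
def rows : List (ℕ × ℕ × ℕ × ℕ) := [(33, 32, 33, 34), (34, 32, 33, 34), (34, 33, 33, 34), (34, 33, 34, 34), (34, 33, 34, 0), (34, 34, 34, 34), (34, 34, 34, 0), (34, 34, 0, 0), (34, 0, 0, 0), (0, 34, 34, 34), (0, 34, 34, 0), (0, 34, 0, 0), (0, 1, 0, 0), (0, 1, 1, 0), (0, 1, 1, 1), (1, 0, 0, 0), (1, 1, 0, 0), (1, 1, 1, 0), (1, 1, 1, 1), (1, 2, 1, 0), (1, 2, 1, 1), (1, 2, 2, 1), (1, 3, 2, 1), (2, 3, 2, 1)]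

theorem rows_eq : rows = lenRoots.map rowOf := by decide +kernel

/-- The code of the values times `m`, in a form quick for the kernel. -/
noncomputable def sig (ℓ m a : ℕ) (rs : List (ℕ × ℕ × ℕ × ℕ)) : ℕ :=
  List.rec 0 (fun c _ acc => Nat.add (Nat.pow 32 (Nat.mod (Nat.mul m (Nat.add (Nat.add (Nat.add
    (Nat.mul c.1 (Nat.mod a ℓ)) (Nat.mul c.2.1 (Nat.mod (Nat.div a ℓ) ℓ)))
    (Nat.mul c.2.2.1 (Nat.mod (Nat.div a (Nat.mul ℓ ℓ)) ℓ)))
    (Nat.mul c.2.2.2 (Nat.mod (Nat.div a (Nat.mul (Nat.mul ℓ ℓ) ℓ)) ℓ)))) ℓ)) acc) rs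

theorem sig_eq (ℓ m a : ℕ) : ∀ rs : List ℕ,
    sig ℓ m a (rs.map rowOf) = (rs.map fun r => 32 ^ (m * lin ℓ a r % ℓ)).sum
  | [] => rfl
  | r :: rs => by
    rw [List.map_cons, List.map_cons, List.sum_cons, ← sig_eq ℓ m a rs, lin, Nat.mul_mod_mod]
    show Nat.add _ _ = _
    simp only [Nat.add_eq, Nat.mul_eq, rowOf]
    rw [sq, pow_three, ← mul_assoc]
    rfl

/-- The test, in a form quick for the kernel. -/
noncomputable def quick (ℓ m a : ℕ) (rs : List (ℕ × ℕ × ℕ × ℕ)) : Bool := Nat.beq (sig ℓ 1 a rs) (sig ℓ m a rs)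

theorem quick_eq (ℓ m a : ℕ) (rs : List ℕ) : quick ℓ m a (rs.map rowOf) = invVals ℓ m rs a := by
  rw [quick, invVals, sig_eq, sig_eq]
  simp only [one_mul, lin, Nat.mod_mod]
  rw [Bool.eq_iff_iff, Nat.beq_eq, beq_iff_eq]

theorem cand5_spec : ((List.range 625).all fun a => Nat.beq a 0 || !quick 5 2 a rows ||
    zeroSets.contains (lenRoots.filter fun r => lin 5 a r == 0)) = true := by decide +kernel

theorem cand7_spec : ((List.range 2401).all fun b => Nat.beq b 0 || !quick 7 3 b rows || cand7.contains b) = true := by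
  decide +kernel

/-- The rows of the zero sets. -/
def zeroRows : List (List (ℕ × ℕ × ℕ × ℕ)) := [[(33, 32, 33, 34), (0, 34, 34, 34), (0, 1, 1, 1), (2, 3, 2, 1)],
    [(33, 32, 33, 34), (0, 34, 34, 0), (0, 1, 1, 0), (2, 3, 2, 1)],
    [(33, 32, 33, 34), (0, 34, 0, 0), (0, 1, 0, 0), (2, 3, 2, 1)],
    [(34, 32, 33, 34), (34, 34, 34, 34), (1, 1, 1, 1), (1, 3, 2, 1)],
    [(34, 32, 33, 34), (34, 34, 34, 0), (1, 1, 1, 0), (1, 3, 2, 1)],
    [(34, 32, 33, 34), (34, 34, 0, 0), (1, 1, 0, 0), (1, 3, 2, 1)],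
    [(34, 33, 33, 34), (34, 33, 34, 34), (1, 2, 1, 1), (1, 2, 2, 1)],
    [(34, 33, 33, 34), (34, 33, 34, 0), (1, 2, 1, 0), (1, 2, 2, 1)],
    [(34, 33, 33, 34), (34, 0, 0, 0), (1, 0, 0, 0), (1, 2, 2, 1)],
    [(34, 33, 34, 34), (34, 33, 34, 0), (1, 2, 1, 0), (1, 2, 1, 1)],
    [(34, 33, 34, 34), (34, 0, 0, 0), (1, 0, 0, 0), (1, 2, 1, 1)],
    [(34, 33, 34, 0), (34, 0, 0, 0), (1, 0, 0, 0), (1, 2, 1, 0)],
    [(34, 34, 34, 34), (34, 34, 34, 0), (1, 1, 1, 0), (1, 1, 1, 1)],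
    [(34, 34, 34, 34), (34, 34, 0, 0), (1, 1, 0, 0), (1, 1, 1, 1)],
    [(34, 34, 34, 0), (34, 34, 0, 0), (1, 1, 0, 0), (1, 1, 1, 0)],
    [(0, 34, 34, 34), (0, 34, 34, 0), (0, 1, 1, 0), (0, 1, 1, 1)],
    [(0, 34, 34, 34), (0, 34, 0, 0), (0, 1, 0, 0), (0, 1, 1, 1)],
    [(0, 34, 34, 0), (0, 34, 0, 0), (0, 1, 0, 0), (0, 1, 1, 0)]]

theorem zeroRows_eq : zeroRows = zeroSets.map (List.map rowOf) := by decide +kernel

theorem cand_none : (zeroRows.all fun Z => cand7.all fun b => !quick 7 3 b Z) = true := by decide +kernel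

/-- No pair of elements of orders five and seven. -/
theorem no_joint {a b : ℕ} (ha : a < 625) (ha0 : a ≠ 0) (hb : b < 2401) (hb0 : b ≠ 0)
    (h5 : invVals 5 2 lenRoots a = true) (h7 : invVals 7 3 lenRoots b = true)
    (hj : invVals 7 3 (lenRoots.filter fun r => lin 5 a r == 0) b = true) : False := by
  have e5 := List.all_eq_true.1 cand5_spec a (List.mem_range.2 ha)
  have e7 := List.all_eq_true.1 cand7_spec b (List.mem_range.2 hb)
  have na : Nat.beq a 0 = false := by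
    rcases h : Nat.beq a 0 with _ | _
    · rfl
    · exact absurd (Nat.eq_of_beq_eq_true h) ha0
  have nb : Nat.beq b 0 = false := by
    rcases h : Nat.beq b 0 with _ | _
    · rfl
    · exact absurd (Nat.eq_of_beq_eq_true h) hb0
  rw [rows_eq, quick_eq, h5, na, Bool.not_true, Bool.false_or, Bool.false_or, List.contains_iff_mem] at e5
  rw [rows_eq, quick_eq, h7, nb, Bool.not_true, Bool.false_or, Bool.false_or, List.contains_iff_mem] at e7
  have := List.all_eq_true.1 (List.all_eq_true.1 cand_none _ (zeroRows_eq ▸ List.mem_map_of_mem e5)) b e7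
  rw [quick_eq, hj] at this
  cases this

end Cfsg.Agent.AltSection.F4
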