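/-
Lifting to the torus: if a section has commuting elements x, y of distinct prime orders and an element raising
them to the powers c, c', then a torus containing Sylow subgroups for both primes contains such a pair of
elements, with an element of the group inducing the same powers.
-/
import Cfsg.Agent.Lib.AltSection.General

set_option autoImplicit false

namespace Cfsg.Agent.AltSection

variable {G : Type*} [Group G] [Finite G]

/-- A subgroup of prime power order moves into a subgroup of index prime to the prime. -/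
theorem exists_conj_le {ℓ : ℕ} [Fact ℓ.Prime] {T P : Subgroup G} (hT : ¬ ℓ ∣ T.index) (hP : IsPGroup ℓ P) :
    ∃ c : G, ∀ s ∈ P, c * s * c⁻¹ ∈ T := by
  obtain ⟨R⟩ : Nonempty (Sylow ℓ T) := inferInstance
  obtain ⟨S, hS⟩ := hP.exists_le_sylow
  obtain ⟨S', hS'⟩ := (R.isPGroup'.map T.subtype).exists_le_sylow
  have hS'eq : (R : Subgroup T).map T.subtype = S' := by
    refine Subgroup.eq_of_le_of_card_ge hS' ?_
    rw [Subgroup.card_map_of_injective T.subtype_injective, Sylow.card_eq_multiplicity,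
      Sylow.card_eq_multiplicity]
    refine Nat.pow_le_pow_right (Fact.out : ℓ.Prime).pos (le_of_eq ?_)
    rw [← Subgroup.card_mul_index T, Nat.factorization_mul Nat.card_pos.ne' Subgroup.index_ne_zero_of_finite,
      Finsupp.add_apply, Nat.factorization_eq_zero_of_not_dvd hT, add_zero]
  obtain ⟨c, hc'⟩ := MulAction.exists_smul_eq G S S'
  refine ⟨c, fun s hs => ?_⟩
  have h1 : MulAut.conj c • s ∈ (S' : Subgroup G) := by
    rw [← hc', Sylow.coe_subgroup_smul]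
    exact Subgroup.smul_mem_pointwise_smul _ (MulAut.conj c) _ (hS hs)
  rw [← hS'eq] at h1
  obtain ⟨t, -, ht⟩ := h1
  have h2 : c * s * c⁻¹ = (t : G) := ht.symm
  rw [h2]
  exact t.2

/-- An element over a given element of order `ℓ` in an `ℓ`-subgroup which is normalised over all elements
normalising the cyclic subgroup. -/
theorem exists_normalised {ℓ : ℕ} [Fact ℓ.Prime] (K : Subgroup G) {A : Type*} [Group A] (φ : K →* A) {x : A}
    (hx : x ∈ φ.range) (hxℓ : x ^ ℓ = 1) :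
    ∃ P : Subgroup G, P ≤ K ∧ IsPGroup ℓ P ∧ (∀ s : K, (s : G) ∈ P → φ s ∈ Subgroup.zpowers x) ∧
      (∃ z : K, (z : G) ∈ P ∧ φ z = x) ∧
      ∀ g ∈ φ.range, g * x * g⁻¹ ∈ Subgroup.zpowers x →
        ∃ k : K, (∀ s ∈ P, (k : G) * s * (k : G)⁻¹ ∈ P) ∧ ∃ j : ℤ, φ k = x ^ j * g := by
  classical
  set M : Subgroup K := (Subgroup.zpowers x).comap φ with hM
  obtain ⟨P⟩ : Nonempty (Sylow ℓ M) := inferInstance
  refine ⟨(P : Subgroup M).map (K.subtype.comp M.subtype), ?_, P.isPGroup'.map _, ?_, ?_, fun g hg hgx => ?_⟩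
  · rintro _ ⟨s, -, rfl⟩; exact s.1.2
  · rintro s ⟨t, -, e⟩
    rw [show s = t.1 from Subtype.ext e.symm]
    exact t.2
  · obtain ⟨w, hw⟩ := hx
    have hwM : w ∈ M := by show φ w ∈ Subgroup.zpowers x; rw [hw]; exact Subgroup.mem_zpowers x
    set w' : M := ⟨w, hwM⟩ with hw'
    set n := orderOf w' with hn
    have hℓ : ℓ.Prime := Fact.out
    have hn0 : n ≠ 0 := (orderOf_pos w').ne'
    set a := ℓ ^ n.factorization ℓ with ha
    set b := n / a with hb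
    have hab : a * b = n := Nat.ordProj_mul_ordCompl_eq_self n ℓ
    have hcop : Nat.Coprime ℓ b := Nat.coprime_ordCompl hℓ hn0
    obtain ⟨i, -, hi⟩ := Nat.exists_mul_mod_eq_one_of_coprime hcop.symm hℓ.one_lt
    have hp : IsPGroup ℓ (Subgroup.zpowers (w' ^ (b * i))) := by
      refine IsPGroup.of_card_dvd_pow (n := n.factorization ℓ) ?_
      rw [Nat.card_zpowers]
      refine orderOf_dvd_of_pow_eq_one ?_
      rw [← pow_mul, show b * i * a = n * i by rw [← hab]; ring, pow_mul, hn, pow_orderOf_eq_one, one_pow]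
    obtain ⟨Q, hQ⟩ := hp.exists_le_sylow
    obtain ⟨c, hcQ⟩ := MulAction.exists_smul_eq M Q P
    refine ⟨(c * w' ^ (b * i) * c⁻¹ : M).1, ⟨c * w' ^ (b * i) * c⁻¹, ?_, rfl⟩, ?_⟩
    · rw [← hcQ]
      exact Subgroup.smul_mem_pointwise_smul _ (MulAut.conj c) (Q : Subgroup M)
        (hQ (Subgroup.mem_zpowers _))
    · obtain ⟨j, hj⟩ := Subgroup.mem_zpowers_iff.1 (show φ (c : K) ∈ Subgroup.zpowers x from c.2)
      have hx1 : x ^ (b * i) = x := by
        conv_lhs => rw [← Nat.div_add_mod (b * i) ℓ, pow_add, pow_mul, hxℓ, one_pow, hi, one_mul, pow_one]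
      simp only [Subgroup.coe_mul, Subgroup.coe_pow, Subgroup.coe_inv, map_mul, map_pow, map_inv, hw', hw, hx1]
      rw [← hj, (Commute.zpow_self x j).eq]
      group
  · obtain ⟨v, hv⟩ := hg
    have hvM : ∀ s ∈ M, v * s * v⁻¹ ∈ M := by
      intro s hs
      obtain ⟨j, hj⟩ := Subgroup.mem_zpowers_iff.1 (show φ s ∈ Subgroup.zpowers x from hs)
      show φ _ ∈ Subgroup.zpowers x
      rw [map_mul, map_mul, map_inv, hv, ← hj, ← conj_zpow]
      exact Subgroup.zpow_mem _ hgx _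
    let e : M →* M := {
      toFun := fun s => ⟨v * s * v⁻¹, hvM _ s.2⟩
      map_one' := Subtype.ext (by simp)
      map_mul' := fun a b => Subtype.ext (by simp only [Subgroup.coe_mul]; group) }
    have he : Function.Injective e := fun a b h => by
      have := congrArg Subtype.val h
      exact Subtype.ext (mul_left_cancel (mul_right_cancel this))
    obtain ⟨Q, hQ⟩ := (P.isPGroup'.map e).exists_le_sylow
    have hQe : (P : Subgroup M).map e = Q :=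
      Subgroup.eq_of_le_of_card_ge hQ (by
        rw [Subgroup.card_map_of_injective he, Sylow.card_eq_multiplicity, Sylow.card_eq_multiplicity])
    obtain ⟨c, hcQ⟩ := MulAction.exists_smul_eq M Q P
    obtain ⟨j, hj⟩ := Subgroup.mem_zpowers_iff.1 (show φ (c : K) ∈ Subgroup.zpowers x from c.2)
    refine ⟨(c : K) * v, ?_, j, by rw [map_mul, hv, hj]⟩
    rintro _ ⟨s, hs, rfl⟩
    refine ⟨c * e s * c⁻¹, ?_, ?_⟩
    · rw [← hcQ]
      exact Subgroup.smul_mem_pointwise_smul _ (MulAut.conj c) (Q : Subgroup M)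
        (hQe ▸ Subgroup.mem_map_of_mem e hs)
    · simp only [MonoidHom.coe_comp, Function.comp_apply, Subgroup.coe_subtype, Subgroup.coe_mul,
        Subgroup.coe_inv, e, MonoidHom.coe_mk, OneHom.coe_mk]
      group

omit [Finite G] in
/-- An eigenvector of prime order in an abelian group of prime power exponent. -/
theorem exists_eigen {ℓ : ℕ} [Fact ℓ.Prime] {P : Subgroup G} (hP : IsPGroup ℓ P)
    (hcomm : ∀ a ∈ P, ∀ b ∈ P, a * b = b * a) {k : G} (hk : ∀ s ∈ P, k * s * k⁻¹ ∈ P) {e : ℕ}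
    (he : ∀ s ∈ P, k ^ e * s * (k ^ e)⁻¹ = s) (hℓe : ¬ ℓ ∣ e) {c d : ℕ} (hd : d ∣ e) (hcd : c ^ d ≡ 1 [MOD ℓ])
    (hd0 : d ≠ 0)
    {A : Type*} [Group A] (ψ : P →* A) (hψ : ∀ s : P, ψ ⟨k * s * k⁻¹, hk _ s.2⟩ = ψ s ^ c) {z : P}
    (hz : ψ z ≠ 1) (hzℓ : ψ z ^ ℓ = 1) : ∃ v ∈ P, v ≠ 1 ∧ v ^ ℓ = 1 ∧ k * v * k⁻¹ = v ^ c := by
  classical
  have hℓ : ℓ.Prime := Fact.out
  letI cg : CommGroup P := { (inferInstance : Group P) with
    mul_comm := fun a b => Subtype.ext (hcomm _ a.2 _ b.2) }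
  obtain ⟨n, hn⟩ := hP z
  set i := c ^ (ℓ ^ n) with hi
  have hic : ∀ u : A, u ^ ℓ = 1 → u ^ i = u ^ c := by
    intro u hu
    rcases eq_or_ne u 1 with rfl | hu1
    · simp
    rw [pow_eq_pow_iff_modEq, orderOf_eq_prime hu hu1, ← ZMod.natCast_eq_natCast_iff, hi, Nat.cast_pow,
      ZMod.pow_card_pow]
  have hid : i ^ e ≡ 1 [MOD ℓ ^ n] := by
    obtain ⟨f, rfl⟩ := hd
    rw [pow_mul, ← one_pow f]
    refine Nat.ModEq.pow f ?_
    rw [hi, ← pow_mul, mul_comm, pow_mul]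
    have h1 : 1 ≤ c ^ d := by
      rcases Nat.eq_zero_or_pos (c ^ d) with h | h
      · rw [h] at hcd
        exact absurd (Nat.modEq_zero_iff_dvd.1 hcd.symm) hℓ.not_dvd_one
      · exact h
    rw [Nat.ModEq.comm, Nat.modEq_iff_dvd' (Nat.one_le_pow _ _ h1)]
    have h2 : (ℓ : ℤ) ∣ ((c ^ d : ℕ) : ℤ) - 1 := by
      have := (Nat.modEq_iff_dvd.1 hcd.symm)
      simpa using this
    have h3 := dvd_sub_pow_of_dvd_sub h2 n
    rw [one_pow] at h3
    have h4 : (((c ^ d) ^ ℓ ^ n - 1 : ℕ) : ℤ) = ((c ^ d : ℕ) : ℤ) ^ ℓ ^ n - 1 := by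
      rw [Nat.cast_sub (Nat.one_le_pow _ _ h1)]
      push_cast
      ring
    rw [← h4, ← Int.natCast_pow] at h3
    exact Int.natCast_dvd_natCast.1 ((dvd_trans (pow_dvd_pow (ℓ : ℤ) (Nat.le_succ n)) (by simpa using h3)))
  let γ : P →* P :=
    { toFun := fun s => ⟨k * s * k⁻¹, hk _ s.2⟩
      map_one' := Subtype.ext (by simp)
      map_mul' := fun a b => Subtype.ext (by simp only [Subgroup.coe_mul]; group) }
  have hγ : ∀ (j : ℕ) (s : P), ((γ^[j] s : P) : G) = k ^ j * s * (k ^ j)⁻¹ := by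
    intro j s
    induction j with
    | zero => simp
    | succ j ih =>
      rw [Function.iterate_succ_apply']
      show k * _ * k⁻¹ = _
      rw [ih, pow_succ']
      group
  -- the twisted average of `z`
  set v : P := ∏ j ∈ Finset.range e, (γ^[j] z) ^ (i ^ (e - 1 - j)) with hv
  have hvn : ∀ s : P, s ^ ℓ ^ n = 1 → s ^ i ^ e = s := by
    intro s hs
    conv_rhs => rw [← pow_one s]
    rw [pow_eq_pow_iff_modEq]
    exact hid.of_dvd (orderOf_dvd_of_pow_eq_one hs)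
  have he0 : 0 < e := Nat.pos_of_ne_zero fun h => hℓe (h ▸ dvd_zero ℓ)
  have hγe : γ^[e] z = z := Subtype.ext ((hγ e z).trans (he _ z.2))
  have hγv : γ v = v ^ i := by
    obtain ⟨e', rfl⟩ : ∃ e', e = e' + 1 := ⟨e - 1, by omega⟩
    rw [hv, map_prod, ← Finset.prod_pow, Finset.prod_range_succ, Finset.prod_range_succ']
    simp only [map_pow, ← Function.iterate_succ_apply' γ, ← pow_mul, ← pow_succ, hγe, Nat.add_sub_cancel,
      Nat.sub_self, pow_zero, pow_one, Nat.sub_zero, Function.iterate_zero_apply]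
    congr 1
    · refine Finset.prod_congr rfl fun j hj => ?_
      have hj' := Finset.mem_range.1 hj
      rw [show e' - (j + 1) + 1 = e' - j by omega]
    · exact (hvn z hn).symm
  have hψγ : ∀ j : ℕ, ψ (γ^[j] z) = ψ z ^ c ^ j := by
    intro j
    induction j with
    | zero => simp
    | succ j ih => rw [Function.iterate_succ_apply', show ψ (γ _) = _ from hψ _, ih, ← pow_mul, pow_succ]
  have hψv : ψ v = ψ z ^ (e * c ^ (e - 1)) := by
    have key : ∀ m ≤ e, ψ (∏ j ∈ Finset.range m, (γ^[j] z) ^ (i ^ (e - 1 - j))) =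
        ψ z ^ (m * c ^ (e - 1)) := by
      intro m hm
      induction m with
      | zero => simp
      | succ m ih =>
        rw [Finset.prod_range_succ, map_mul, ih (by omega), map_pow, hψγ, ← pow_mul]
        have hpw : ∀ t : ℕ, ψ z ^ i ^ t = ψ z ^ c ^ t := by
          intro t
          induction t with
          | zero => simp
          | succ t iht =>
            rw [pow_succ, pow_mul, iht, pow_succ, pow_mul]
            exact hic _ (by rw [← pow_mul, mul_comm, pow_mul, hzℓ, one_pow])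
        rw [mul_comm (c ^ m) _, pow_mul (ψ z) (i ^ (e - 1 - m)) (c ^ m), hpw, ← pow_mul, ← pow_add, ← pow_add,
          show e - 1 - m + m = e - 1 by omega, add_mul, one_mul]
    exact key e le_rfl
  have hv1 : v ≠ 1 := by
    intro h
    rw [h, map_one] at hψv
    have h2 := orderOf_dvd_of_pow_eq_one hψv.symm
    rw [orderOf_eq_prime hzℓ hz] at h2
    rcases hℓ.dvd_mul.1 h2 with h2 | h2
    · exact hℓe h2
    · have hc := (Nat.modEq_zero_iff_dvd.2 (hℓ.dvd_of_dvd_pow h2)).pow d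
      rw [zero_pow hd0] at hc
      exact hℓ.not_dvd_one (Nat.modEq_zero_iff_dvd.1 (hcd.symm.trans hc))
  obtain ⟨m, hm⟩ := IsPGroup.iff_orderOf.1 hP v
  obtain ⟨m', rfl⟩ : ∃ m', m = m' + 1 := ⟨m - 1, by
    rcases m with _ | m
    · exact absurd (orderOf_eq_one_iff.1 (by rw [hm, pow_zero])) hv1
    · omega⟩
  set v₀ := v ^ ℓ ^ m' with hv₀
  have hv₀ℓ : v₀ ^ ℓ = 1 := by rw [hv₀, ← pow_mul, ← pow_succ, ← hm, pow_orderOf_eq_one]
  have hv₀1 : v₀ ≠ 1 := by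
    refine pow_ne_one_of_lt_orderOf (pow_ne_zero _ hℓ.ne_zero) ?_
    rw [hm]
    exact Nat.pow_lt_pow_right hℓ.one_lt (Nat.lt_succ_self m')
  refine ⟨v₀, v₀.2, fun h => hv₀1 (Subtype.ext h), congrArg Subtype.val hv₀ℓ, ?_⟩
  have h3 : γ v₀ = v₀ ^ c := by
    rw [hv₀, map_pow, hγv, ← pow_mul, mul_comm, pow_mul, ← hv₀]
    conv_rhs => rw [← pow_one v₀, ← pow_mul, one_mul]
    rw [pow_eq_pow_iff_modEq, orderOf_eq_prime hv₀ℓ hv₀1, ← ZMod.natCast_eq_natCast_iff, hi, Nat.cast_pow,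
      ZMod.pow_card_pow]
  exact congrArg Subtype.val h3

/-- Commuting elements of two prime orders with an element raising them to given powers, lifted to the torus. -/
theorem exists_joint {ℓ ℓ' : ℕ} [Fact ℓ.Prime] [Fact ℓ'.Prime] (hne : ℓ ≠ ℓ') {T : Subgroup G}
    (hT : ¬ ℓ ∣ T.index) (hT' : ¬ ℓ' ∣ T.index) (hcomm : ∀ a ∈ T, ∀ b ∈ T, a * b = b * a) {e : ℕ}
    (hℓe : ¬ ℓ ∣ e) (hℓ'e : ¬ ℓ' ∣ e)
    (hfus : ∀ g : G, ∀ P ≤ T, (∀ z ∈ P, g * z * g⁻¹ ∈ P) → ∀ z ∈ P, g ^ e * z * (g ^ e)⁻¹ = z)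
    {H : Subgroup G} {A : Type*} [Group A] (φ : H →* A) {x y g : A} (hxr : x ∈ φ.range) (hyr : y ∈ φ.range)
    (hgr : g ∈ φ.range) (hx : x ≠ 1) (hxℓ : x ^ ℓ = 1) (hy : y ≠ 1) (hyℓ : y ^ ℓ' = 1) (hxy : Commute x y)
    {c c' d d' : ℕ} (hd : d ∣ e) (hd0 : d ≠ 0) (hcd : c ^ d ≡ 1 [MOD ℓ])
    (hd' : d' ∣ e) (hd0' : d' ≠ 0) (hcd' : c' ^ d' ≡ 1 [MOD ℓ'])
    (hgx : g * x * g⁻¹ = x ^ c) (hgy : g * y * g⁻¹ = y ^ c') :
    ∃ h v z : G, v ∈ T ∧ z ∈ T ∧ v ≠ 1 ∧ z ≠ 1 ∧ v ^ ℓ = 1 ∧ z ^ ℓ' = 1 ∧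
      h * v * h⁻¹ = v ^ c ∧ h * z * h⁻¹ = z ^ c' := by
  classical
  obtain ⟨P, hPH, hP, hPx, ⟨zx, hzxP, hzx⟩, hnx⟩ := exists_normalised H φ hxr hxℓ
  obtain ⟨c₁, hc₁⟩ := exists_conj_le hT hP
  have hPc : ∀ a ∈ P, ∀ b ∈ P, a * b = b * a := by
    intro a ha b hb
    have := hcomm _ (hc₁ a ha) _ (hc₁ b hb)
    refine mul_left_cancel (a := c₁) (mul_right_cancel (b := c₁⁻¹) ?_)
    calc c₁ * (a * b) * c₁⁻¹ = c₁ * a * c₁⁻¹ * (c₁ * b * c₁⁻¹) := by group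
      _ = c₁ * b * c₁⁻¹ * (c₁ * a * c₁⁻¹) := this
      _ = _ := by group
  have hcent : ∀ {R : Subgroup G} {c : G}, (∀ s ∈ R, c * s * c⁻¹ ∈ T) → ∀ k : G, (∀ s ∈ R, k * s * k⁻¹ ∈ R) →
      ∀ s ∈ R, k ^ e * s * (k ^ e)⁻¹ = s := by
    intro R c hc k hk s hs
    have := hfus (c * k * c⁻¹) (R.map (MulAut.conj c).toMonoidHom) (by rintro _ ⟨t, ht, rfl⟩; exact hc t ht)
      (by rintro _ ⟨t, ht, rfl⟩; exact ⟨k * t * k⁻¹, hk t ht, by simp [MulAut.conj_apply, mul_assoc]⟩)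
      (c * s * c⁻¹) ⟨s, hs, by simp [MulAut.conj_apply]⟩
    rw [conj_pow] at this
    refine mul_left_cancel (a := c) (mul_right_cancel (b := c⁻¹) ?_)
    conv_rhs => rw [← this]
    group
  -- the normaliser of `P` in `H`
  set K : Subgroup G := H ⊓ Subgroup.normalizer (P : Set G) with hK
  have hmemK : ∀ k : H, (∀ s ∈ P, (k : G) * s * (k : G)⁻¹ ∈ P) → (k : G) ∈ K := by
    intro k hk
    refine ⟨k.2, Subgroup.mem_normalizer_iff.2 fun s => ⟨hk s, fun hs => ?_⟩⟩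
    have h1 : P.map (MulAut.conj (k : G)).toMonoidHom = P :=
      Subgroup.eq_of_le_of_card_ge (by rintro _ ⟨t, ht, rfl⟩; exact hk t ht)
        (Subgroup.card_map_of_injective (MulAut.conj (k : G)).injective).ge
    rw [← h1] at hs
    obtain ⟨t, ht, e⟩ := hs
    have h2 : t = s := (MulAut.conj (k : G)).injective e
    rwa [h2] at ht
  let φK : K →* A := φ.comp (Subgroup.inclusion inf_le_left)
  obtain ⟨ky, hky, jy, hky'⟩ := hnx y hyr (by
    rw [← hxy.eq, mul_inv_cancel_right]; exact Subgroup.mem_zpowers x)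
  obtain ⟨kg, hkg, jg, hkg'⟩ := hnx g hgr (by rw [hgx]; exact Subgroup.pow_mem _ (Subgroup.mem_zpowers x) _)
  have hyK : y ∈ φK.range := by
    have h1 : x ^ jy * y ∈ φK.range := ⟨⟨ky, hmemK ky hky⟩, hky'⟩
    obtain ⟨m, hm1, hm2⟩ : ∃ m : ℕ, m ≡ 0 [MOD ℓ] ∧ m ≡ 1 [MOD ℓ'] := by
      obtain ⟨m, hm⟩ := Nat.chineseRemainder ((Nat.coprime_primes Fact.out Fact.out).2 hne) 0 1
      exact ⟨m, hm⟩
    have h2 : (x ^ jy * y) ^ m = y := by
      rw [(hxy.zpow_left jy).mul_pow]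
      have e1 : (x ^ jy) ^ m = 1 := by
        obtain ⟨t, ht⟩ := Nat.modEq_zero_iff_dvd.1 hm1
        rw [ht, pow_mul, ← zpow_natCast (x ^ jy) ℓ, ← zpow_mul, mul_comm, zpow_mul, zpow_natCast, hxℓ, one_zpow,
          one_pow]
      have e2 : y ^ m = y := by
        conv_rhs => rw [← pow_one y]
        rw [pow_eq_pow_iff_modEq, orderOf_eq_prime hyℓ hy]
        exact hm2
      rw [e1, e2, one_mul]
    exact h2 ▸ φK.range.pow_mem h1 m
  set g₁ := x ^ jg * g with hg₁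
  have hg₁x : g₁ * x * g₁⁻¹ = x ^ c := by
    rw [hg₁, show x ^ jg * g * x * (x ^ jg * g)⁻¹ = x ^ jg * (g * x * g⁻¹) * (x ^ jg)⁻¹ by group, hgx,
      (((Commute.refl x).pow_right c).zpow_left jg).eq]
    group
  have hg₁y : g₁ * y * g₁⁻¹ = y ^ c' := by
    rw [hg₁, show x ^ jg * g * y * (x ^ jg * g)⁻¹ = x ^ jg * (g * y * g⁻¹) * (x ^ jg)⁻¹ by group, hgy,
      ((hxy.pow_right c').zpow_left jg).eq]
    group
  obtain ⟨Q, hQK, hQ, hQy, ⟨zy, hzyQ, hzy⟩, hny⟩ := exists_normalised K φK hyK hyℓ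
  obtain ⟨k, hkQ, j, hk'⟩ := hny g₁ ⟨⟨kg, hmemK kg hkg⟩, hkg'⟩
    (by rw [hg₁y]; exact Subgroup.pow_mem _ (Subgroup.mem_zpowers y) _)
  have hkP : ∀ s ∈ P, (k : G) * s * (k : G)⁻¹ ∈ P := fun s hs =>
    (Subgroup.mem_normalizer_iff.1 k.2.2 s).1 hs
  obtain ⟨c₂, hc₂⟩ := exists_conj_le hT' hQ
  have hQc : ∀ a ∈ Q, ∀ b ∈ Q, a * b = b * a := by
    intro a ha b hb
    have := hcomm _ (hc₂ a ha) _ (hc₂ b hb)
    refine mul_left_cancel (a := c₂) (mul_right_cancel (b := c₂⁻¹) ?_)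
    calc c₂ * (a * b) * c₂⁻¹ = c₂ * a * c₂⁻¹ * (c₂ * b * c₂⁻¹) := by group
      _ = c₂ * b * c₂⁻¹ * (c₂ * a * c₂⁻¹) := this
      _ = _ := by group
  have hQP : ∀ q ∈ Q, ∀ s ∈ P, q * s * q⁻¹ = s := by
    intro q hq s hs
    have h1 := hcent hc₁ q (fun s hs => (Subgroup.mem_normalizer_iff.1 (hQK hq).2 s).1 hs) s hs
    obtain ⟨n, hn⟩ := hQ ⟨q, hq⟩
    have hn' : q ^ ℓ' ^ n = 1 := congrArg Subtype.val hn
    have hmem : q ∈ Subgroup.centralizer ({s} : Set G) := by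
      have he1 : q ^ e ∈ Subgroup.centralizer ({s} : Set G) := by
        rw [Subgroup.mem_centralizer_singleton_iff]
        conv_rhs => rw [← h1]
        group
      obtain ⟨m, -, hm⟩ := Nat.exists_mul_mod_eq_one_of_coprime
        (k := ℓ' ^ (n + 1)) (((Fact.out : ℓ'.Prime).coprime_iff_not_dvd.2 hℓ'e).symm.pow_right _)
        (Nat.one_lt_pow (Nat.succ_ne_zero n) (Fact.out : ℓ'.Prime).one_lt)
      have e2 : (q ^ e) ^ m = q := by
        rw [← pow_mul, ← Nat.div_add_mod (e * m) (ℓ' ^ (n + 1)), hm, pow_add, pow_mul,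
          show q ^ ℓ' ^ (n + 1) = 1 by rw [pow_succ, pow_mul, hn', one_pow], one_pow, one_mul, pow_one]
      exact e2 ▸ Subgroup.pow_mem _ he1 m
    rw [Subgroup.mem_centralizer_singleton_iff] at hmem
    rw [hmem, mul_inv_cancel_right]
  -- eigenvectors for `k`
  have hkφ : φK k = y ^ j * g₁ := hk'
  have hkx : φK k * x * (φK k)⁻¹ = x ^ c := by
    rw [hkφ, show y ^ j * g₁ * x * (y ^ j * g₁)⁻¹ = y ^ j * (g₁ * x * g₁⁻¹) * (y ^ j)⁻¹ by group, hg₁x,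
      ((hxy.symm.pow_right c).zpow_left j).eq]
    group
  have hky₁ : φK k * y * (φK k)⁻¹ = y ^ c' := by
    rw [hkφ, show y ^ j * g₁ * y * (y ^ j * g₁)⁻¹ = y ^ j * (g₁ * y * g₁⁻¹) * (y ^ j)⁻¹ by group, hg₁y,
      (((Commute.refl y).pow_right c').zpow_left j).eq]
    group
  obtain ⟨v, hvP, hv1, hvℓ, hvk⟩ := exists_eigen (k := (k : G)) hP hPc hkP (hcent hc₁ k hkP) hℓe hd hcd hd0
    (φ.comp (Subgroup.inclusion hPH)) (fun s => by
      obtain ⟨i, hi⟩ := Subgroup.mem_zpowers_iff.1 (hPx ⟨s, hPH s.2⟩ s.2)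
      show φ ⟨(k : G) * s * (k : G)⁻¹, _⟩ = φ ⟨s, _⟩ ^ c
      rw [show (⟨(k : G) * s * (k : G)⁻¹, hPH (hkP _ s.2)⟩ : H) =
        (Subgroup.inclusion inf_le_left k : H) * ⟨s, hPH s.2⟩ * (Subgroup.inclusion inf_le_left k : H)⁻¹ from rfl,
        map_mul, map_mul, map_inv, ← hi, ← conj_zpow, show φ (Subgroup.inclusion inf_le_left k) = φK k from rfl,
        hkx, ← zpow_natCast, ← zpow_natCast, ← zpow_mul, ← zpow_mul, mul_comm])
    (z := ⟨zx, hzxP⟩) (by show φ zx ≠ 1; rw [hzx]; exact hx) (by show φ zx ^ ℓ = 1; rw [hzx]; exact hxℓ)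
  obtain ⟨z, hzQ, hz1, hzℓ, hzk⟩ := exists_eigen (k := (k : G)) hQ hQc hkQ (hcent hc₂ k hkQ) hℓ'e hd' hcd' hd0'
    (φK.comp (Subgroup.inclusion hQK)) (fun s => by
      obtain ⟨i, hi⟩ := Subgroup.mem_zpowers_iff.1 (hQy ⟨s, hQK s.2⟩ s.2)
      show φK ⟨(k : G) * s * (k : G)⁻¹, _⟩ = φK ⟨s, _⟩ ^ c'
      rw [show (⟨(k : G) * s * (k : G)⁻¹, hQK (hkQ _ s.2)⟩ : K) = k * ⟨s, hQK s.2⟩ * k⁻¹ from rfl,
        map_mul, map_mul, map_inv, ← hi, ← conj_zpow, hky₁, ← zpow_natCast, ← zpow_natCast, ← zpow_mul,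
        ← zpow_mul, mul_comm])
    (z := ⟨zy, hzyQ⟩) (by show φK zy ≠ 1; rw [hzy]; exact hy) (by show φK zy ^ ℓ' = 1; rw [hzy]; exact hyℓ)
  -- into the torus
  set v₁ := c₁ * v * c₁⁻¹ with hv₁
  set z₁ := c₁ * z * c₁⁻¹ with hz₁
  have hzC : z₁ ∈ Subgroup.centralizer ({v₁} : Set G) := by
    rw [Subgroup.mem_centralizer_singleton_iff]
    have h1 : z * v = v * z := by
      conv_rhs => rw [← hQP z hzQ v hvP]
      group
    calc c₁ * z * c₁⁻¹ * (c₁ * v * c₁⁻¹) = c₁ * (z * v) * c₁⁻¹ := by group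
      _ = c₁ * (v * z) * c₁⁻¹ := by rw [h1]
      _ = _ := by rw [hv₁, hz₁]; group
  have hTC : T ≤ Subgroup.centralizer ({v₁} : Set G) := fun t ht =>
    Subgroup.mem_centralizer_singleton_iff.2 (hcomm t ht _ (hc₁ v hvP))
  obtain ⟨d₂, hd₂⟩ := exists_conj_le (G := Subgroup.centralizer ({v₁} : Set G))
    (T := T.subgroupOf _) (ℓ := ℓ') (P := Subgroup.zpowers ⟨z₁, hzC⟩)
    (fun h => hT' (h.trans (Subgroup.relIndex_dvd_index_of_le hTC)))
    (IsPGroup.of_card_dvd_pow (n := 1) (by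
      rw [Nat.card_zpowers, pow_one]
      refine orderOf_dvd_of_pow_eq_one (Subtype.ext ?_)
      show z₁ ^ ℓ' = 1
      rw [hz₁, conj_pow, hzℓ]; group))
  set u := (d₂ : G) * c₁ with hu
  have hd₂v : (d₂ : G) * v₁ * (d₂ : G)⁻¹ = v₁ := by
    rw [Subgroup.mem_centralizer_singleton_iff.1 d₂.2, mul_inv_cancel_right]
  have huv : u * v * u⁻¹ = v₁ := by
    rw [hu, show (d₂ : G) * c₁ * v * ((d₂ : G) * c₁)⁻¹ = (d₂ : G) * (c₁ * v * c₁⁻¹) * (d₂ : G)⁻¹ by group]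
    exact hd₂v
  have huz : u * z * u⁻¹ = (d₂ : G) * z₁ * (d₂ : G)⁻¹ := by rw [hu, hz₁]; group
  refine ⟨u * k * u⁻¹, u * v * u⁻¹, u * z * u⁻¹, huv ▸ hc₁ v hvP,
    huz ▸ hd₂ ⟨z₁, hzC⟩ (Subgroup.mem_zpowers _), ?_, ?_, ?_, ?_, ?_, ?_⟩
  · exact fun h => hv1 (conj_eq_one_iff.1 h)
  · exact fun h => hz1 (conj_eq_one_iff.1 h)
  · rw [conj_pow, hvℓ]; group
  · rw [conj_pow, hzℓ]; group
  · rw [conj_pow, ← hvk]; group
  · rw [conj_pow, ← hzk]; group

end Cfsg.Agent.AltSection
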