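/-
Values of torus elements on roots modulo `m` as integral linear forms: the action of reflection words, the move of
every form into the closed alcove, and a complete search for the images of the fundamental roots.
-/
import Mathlib

set_option autoImplicit false

namespace Cfsg.Agent.AltSection.Kac

/-- A reflection system in coordinates. -/
structure Coords (n N : ℕ) where
  C : Fin N → Fin n → ℤ
  A : Fin n → Fin N → ℤ
  simp : Fin n → Fin N
  refl : Fin n → Equiv.Perm (Fin N)
  coord_refl : ∀ i r k, C (refl i r) k = C r k - if k = i then A i r else 0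
  coord_simp : ∀ i k, C (simp i) k = if k = i then 1 else 0
  linear : ∀ i r, A i r = ∑ k, C r k * A i (simp k)

namespace Coords

variable {n N : ℕ} (S : Coords n N)

/-- The value of the form with fundamental values `x`. -/
def val (x : Fin n → ℤ) (r : Fin N) : ℤ := ∑ k, x k * S.C r k

/-- The product of a word. -/
def word (l : List (Fin n)) : Equiv.Perm (Fin N) := (l.map S.refl).prod

theorem val_simp (x : Fin n → ℤ) (i : Fin n) : S.val x (S.simp i) = x i := by
  simp [val, S.coord_simp]

theorem val_refl (x : Fin n → ℤ) (i : Fin n) (r : Fin N) :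
    S.val x (S.refl i r) = S.val (fun k => x k - x i * S.A i (S.simp k)) r := by
  simp only [val, S.coord_refl, mul_sub, Finset.sum_sub_distrib, mul_ite, mul_zero, Finset.sum_ite_eq',
    Finset.mem_univ, if_true, sub_mul]
  congr 1
  rw [S.linear i r, Finset.mul_sum]
  exact Finset.sum_congr rfl fun k _ => by ring

theorem exists_act (l : List (Fin n)) : ∀ x, ∃ x', ∀ r, S.val x (S.word l r) = S.val x' r := by
  induction l with
  | nil => exact fun x => ⟨x, fun r => rfl⟩
  | cons i l ih =>
    intro x
    obtain ⟨x', hx'⟩ := ih (fun k => x k - x i * S.A i (S.simp k))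
    exact ⟨x', fun r => by
      rw [word, List.map_cons, List.prod_cons, Equiv.Perm.mul_apply, val_refl]
      exact hx' r⟩

theorem val_word (l : List (Fin n)) (x : Fin n → ℤ) (r : Fin N) :
    S.val x (S.word l r) = S.val (fun k => S.val x (S.word l (S.simp k))) r := by
  obtain ⟨x', hx'⟩ := S.exists_act l x
  rw [hx' r]
  congr 1
  funext k
  rw [hx', val_simp]

theorem coord_word (l : List (Fin n)) (r : Fin N) (j : Fin n) :
    S.C (S.word l r) j = ∑ k, S.C r k * S.C (S.word l (S.simp k)) j := by
  have h := S.val_word l (fun k => if k = j then 1 else 0) r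
  simp only [val, ite_mul, one_mul, zero_mul, Finset.sum_ite_eq', Finset.mem_univ, if_true] at h
  rw [h]
  exact Finset.sum_congr rfl fun k _ => mul_comm _ _

/-- The pairing of two roots. -/
def pair (b a : Fin N) : ℤ := ∑ k, S.C b k * S.A k a

theorem pair_eq (b a : Fin N) : S.pair b a = ∑ k, ∑ j, S.C b k * S.C a j * S.A k (S.simp j) := by
  refine Finset.sum_congr rfl fun k _ => ?_
  rw [S.linear k a, Finset.mul_sum]
  exact Finset.sum_congr rfl fun j _ => by ring

variable (hsym : ∀ i k, S.A i (S.simp k) = S.A k (S.simp i)) (htwo : ∀ i, S.A i (S.simp i) = 2)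
include hsym htwo

theorem pair_refl (i : Fin n) (b a : Fin N) : S.pair (S.refl i b) (S.refl i a) = S.pair b a := by
  have hA : ∀ k, S.A k (S.refl i a) = S.A k a - S.A i a * S.A k (S.simp i) := by
    intro k
    rw [S.linear k (S.refl i a), S.linear k a]
    simp only [S.coord_refl, sub_mul, Finset.sum_sub_distrib, ite_mul, zero_mul, Finset.sum_ite_eq',
      Finset.mem_univ, if_true]
  have hb : ∑ k, S.C b k * S.A k (S.simp i) = S.A i b := by
    rw [S.linear i b]
    exact Finset.sum_congr rfl fun k _ => by rw [hsym]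
  simp only [pair, hA, S.coord_refl, sub_mul, mul_sub, Finset.sum_sub_distrib, ite_mul, zero_mul,
    Finset.sum_ite_eq', Finset.mem_univ, if_true]
  have e : ∑ k, S.C b k * (S.A i a * S.A k (S.simp i)) = S.A i a * S.A i b := by
    rw [← hb, Finset.mul_sum]
    exact Finset.sum_congr rfl fun k _ => by ring
  rw [e, htwo]
  ring

theorem pair_word (l : List (Fin n)) (b a : Fin N) : S.pair (S.word l b) (S.word l a) = S.pair b a := by
  induction l with
  | nil => rfl
  | cons i l ih =>
    rw [word, List.map_cons, List.prod_cons, Equiv.Perm.mul_apply, Equiv.Perm.mul_apply, S.pair_refl hsym htwo]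
    exact ih

omit hsym htwo

/-- Every form is, up to a word and modulo `m`, a dominant one with value at most `m` at the highest root. -/
theorem exists_alcove {Pos : Fin N → Prop} (hrefl : ∀ i r, S.refl i (S.refl i r) = r)
    (hpos : ∀ i r, Pos r → r ≠ S.simp i → Pos (S.refl i r)) (hsimp : ∀ i, Pos (S.simp i))
    (hneg : ∀ i, ¬ Pos (S.refl i (S.simp i))) (htwo : ∀ i, S.A i (S.simp i) = 2)
    {θ : Fin N} {h : Fin n → ℤ} {K : ℕ} (hK0 : 0 < K)
    (hK : ∀ k, ∑ r, S.val h r * S.C r k = (K : ℤ) * S.C θ k) (hsq : ∑ r, S.val h r ^ 2 = 2 * (K : ℤ))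
    {m : ℕ} (hm : 0 < m) (x : Fin n → ℤ) :
    ∃ (l : List (Fin n)) (y : Fin n → ℤ), (∀ r, S.val x (S.word l r) ≡ S.val y r [ZMOD m]) ∧
      (∀ i, 0 ≤ y i) ∧ S.val y θ ≤ m := by
  classical
  let Q : (Fin n → ℤ) → ℕ := fun y => (∑ r, S.val y r ^ 2).toNat
  let Neg : (Fin n → ℤ) → ℕ := fun y => (Finset.univ.filter fun r => Pos r ∧ S.val y r < 0).card
  let Ok : (Fin n → ℤ) → Prop := fun y => ∃ l, ∀ r, S.val x (S.word l r) ≡ S.val y r [ZMOD m]
  have hex : ∃ q, ∃ y, Ok y ∧ Q y = q := ⟨Q x, x, ⟨[], fun r => Int.ModEq.refl _⟩, rfl⟩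
  obtain ⟨y₀, hy₀, hq₀⟩ := Nat.find_spec hex
  have hmin : ∀ y, Ok y → Nat.find hex ≤ Q y := fun y hy => Nat.find_min' hex ⟨y, hy, rfl⟩
  have hex' : ∃ c, ∃ y, Ok y ∧ Q y = Nat.find hex ∧ Neg y = c := ⟨Neg y₀, y₀, hy₀, hq₀, rfl⟩
  obtain ⟨y, hy, hq, hc⟩ := Nat.find_spec hex'
  obtain ⟨l, hl⟩ := hy
  have hQ : ∀ z, (Q z : ℤ) = ∑ r, S.val z r ^ 2 := fun z =>
    Int.toNat_of_nonneg (Finset.sum_nonneg fun r _ => sq_nonneg _)
  refine ⟨l, y, hl, fun i => ?_, ?_⟩
  · by_contra hi
    push Not at hi
    set y' : Fin n → ℤ := fun k => y k - y i * S.A i (S.simp k) with hy'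
    have hv : ∀ r, S.val y' r = S.val y (S.refl i r) := fun r => (S.val_refl y i r).symm
    have hok : Ok y' := ⟨l ++ [i], fun r => by
      rw [hv, word, List.map_append, List.prod_append, Equiv.Perm.mul_apply]
      simpa [word] using hl (S.refl i r)⟩
    have hQ' : Q y' = Q y := by
      apply Int.ofNat_inj.1
      rw [hQ, hQ]
      simp only [hv]
      exact Equiv.sum_comp (S.refl i) (fun r => S.val y r ^ 2)
    have hlt : Neg y' < Neg y := by
      have hsub : ((Finset.univ.filter fun r => Pos r ∧ S.val y' r < 0).image (S.refl i)) ⊆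
          (Finset.univ.filter fun r => Pos r ∧ S.val y r < 0).erase (S.simp i) := by
        intro s hs
        obtain ⟨r, hr, rfl⟩ := Finset.mem_image.1 hs
        rw [Finset.mem_filter, hv] at hr
        have hne : r ≠ S.simp i := by
          rintro rfl
          rw [← hv, val_simp, hy'] at hr
          simp only [htwo] at hr
          omega
        refine Finset.mem_erase.2 ⟨fun e => hneg i ?_, Finset.mem_filter.2
          ⟨Finset.mem_univ _, hpos i r hr.2.1 hne, hr.2.2⟩⟩
        rw [← e, hrefl]
        exact hr.2.1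
      have h1 := Finset.card_le_card hsub
      rw [Finset.card_image_of_injective _ (S.refl i).injective, Finset.card_erase_of_mem
        (Finset.mem_filter.2 ⟨Finset.mem_univ _, hsimp i, by rwa [val_simp]⟩)] at h1
      have h2 : 0 < Neg y := Finset.card_pos.2 ⟨S.simp i,
        Finset.mem_filter.2 ⟨Finset.mem_univ _, hsimp i, by rwa [val_simp]⟩⟩
      simp only [Neg] at h1 h2 ⊢
      omega
    have := Nat.find_min' hex' ⟨y', hok, hQ'.trans hq, rfl⟩
    omega
  · set y' : Fin n → ℤ := fun k => y k - (m : ℤ) * h k with hy'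
    have hv : ∀ r, S.val y' r = S.val y r - (m : ℤ) * S.val h r := by
      intro r
      simp only [hy', val, sub_mul, Finset.sum_sub_distrib, Finset.mul_sum, mul_assoc]
    have hok : Ok y' := ⟨l, fun r => by
      rw [hv]
      refine (hl r).trans ?_
      rw [Int.modEq_iff_dvd]
      exact ⟨-S.val h r, by ring⟩⟩
    have h1 := hmin y' hok
    rw [← hq] at h1
    have h2 : ((Q y : ℕ) : ℤ) ≤ (Q y' : ℕ) := by exact_mod_cast h1
    rw [hQ, hQ] at h2
    have h3 : ∑ r, S.val h r * S.val y r = (K : ℤ) * S.val y θ := by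
      simp only [val, Finset.mul_sum]
      rw [Finset.sum_comm]
      refine Finset.sum_congr rfl fun k _ => ?_
      calc ∑ r, S.val h r * (y k * S.C r k) = y k * ∑ r, S.val h r * S.C r k := by
            rw [Finset.mul_sum]; exact Finset.sum_congr rfl fun r _ => by ring
        _ = _ := by rw [hK]; ring
    have h4 : ∑ r, S.val y' r ^ 2 = ∑ r, S.val y r ^ 2 - 2 * (m : ℤ) * ((K : ℤ) * S.val y θ) +
        (m : ℤ) ^ 2 * (2 * (K : ℤ)) := by
      rw [← h3, ← hsq, Finset.mul_sum, Finset.mul_sum, ← Finset.sum_sub_distrib, ← Finset.sum_add_distrib]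
      exact Finset.sum_congr rfl fun r _ => by rw [hv]; ring
    rw [h4] at h2
    have hpos' : (0 : ℤ) < (m : ℤ) * K := by positivity
    nlinarith

end Coords

/-- The lists of natural numbers with bounded weighted sum. -/
def points : List ℕ → ℕ → List (List ℕ)
  | [], _ => [[]]
  | t :: ts, b => (List.range (b / t + 1)).flatMap fun k => (points ts (b - k * t)).map (k :: ·)

theorem mem_points : ∀ (ts : List ℕ) (ys : List ℕ) (b : ℕ), (∀ t ∈ ts, 0 < t) → ys.length = ts.length →
    (List.zipWith (· * ·) ys ts).sum ≤ b → ys ∈ points ts b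
  | [], [], _, _, _, _ => by simp [points]
  | [], _ :: _, _, _, h, _ => by simp at h
  | _ :: _, [], _, _, h, _ => by simp at h
  | t :: ts, k :: ys, b, hp, hl, hs => by
    simp only [List.zipWith_cons_cons, List.sum_cons] at hs
    simp only [points, List.mem_flatMap, List.mem_range, List.mem_map]
    refine ⟨k, ?_, ys, mem_points ts ys _ (fun u hu => hp u (List.mem_cons_of_mem _ hu)) (by simpa using hl)
      (by omega), rfl⟩
    rw [Nat.lt_succ_iff, Nat.le_div_iff_mul_le (hp t List.mem_cons_self)]
    omega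

/-- The search for tuples with pairwise conditions, from the last place down. -/
def search (cand : ℕ → List ℕ) (ok : ℕ → ℕ → ℕ → ℕ → Bool) : ℕ → List ℕ → List (List ℕ)
  | 0, acc => [acc]
  | k + 1, acc =>
    ((cand k).filter fun b => (acc.zipIdx).all fun p => ok k b (k + 1 + p.2) p.1).flatMap fun b =>
      search cand ok k (b :: acc)

theorem mem_search (cand : ℕ → List ℕ) (ok : ℕ → ℕ → ℕ → ℕ → Bool) (β : ℕ → ℕ) (n : ℕ)
    (hc : ∀ i < n, β i ∈ cand i) (hok : ∀ i j, i < j → j < n → ok i (β i) j (β j) = true) :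
    (List.range n).map β ∈ search cand ok n [] := by
  suffices h : ∀ k ≤ n, (List.range n).map β ∈ search cand ok k ((List.range' k (n - k)).map β) by
    simpa using h n le_rfl
  intro k
  induction k with
  | zero => intro _; simp [search, List.range_eq_range']
  | succ k ih =>
    intro hk
    simp only [search, List.mem_flatMap, List.mem_filter, List.all_eq_true]
    refine ⟨β k, ⟨hc k (by omega), ?_⟩, ?_⟩
    · rintro ⟨b, q⟩ hp
      obtain ⟨-, hq, hb⟩ := List.mem_zipIdx hp
      simp only [List.length_map, List.length_range', Nat.zero_add, Nat.sub_zero] at hq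
      simp only [hb, List.getElem_map, List.getElem_range', Nat.sub_zero, one_mul]
      exact hok k (k + 1 + q) (by omega) (by omega)
    · have h := ih (by omega)
      rwa [show n - k = n - (k + 1) + 1 by omega, List.range'_succ, List.map_cons] at h

end Cfsg.Agent.AltSection.Kac
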