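/-
Elements of prime order of a split torus as integral functions on the roots modulo the prime, and how they
transform under a monomial element.
-/
import Cfsg.Agent.Lib.Chev.TorusOrder
import Cfsg.Agent.Lib.Chev.Subfield.Center
import Cfsg.Agent.Lib.Chev.TwistPerfect
import Cfsg.Agent.Lib.Twisted.Monomial
import Cfsg.Agent.Lib.RootBN.Automiser

set_option autoImplicit false

namespace Cfsg.Agent.AltSection

open Cfsg.Lie Cfsg.Agent.Chev Cfsg.Agent.Chev.BNSetup

variable {D : ChevalleyDatum} (hG : Good D) {tabs simps : List ℕ} (hf : Facts D tabs simps)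
  {F : Type*} [Field F]

include hG hf in
theorem xe_right_cancel {r : ℕ} (hr : r < D.nroots) {a b : F} (h : xe hG r a = xe hG r b) : a = b := by
  by_contra hne
  refine xe_ne_one hG hf hr (sub_ne_zero.2 hne) ?_
  rw [sub_eq_add_neg, ← xe_add hG hr, h, xe_add hG hr, add_neg_cancel, xe_zero hG hr]

/-- The exponent of the value at `r`. -/
def expo (D : ChevalleyDatum) (C : ℕ → ℕ → ℤ) (ℓ : ℕ) (f : Fin D.rank → ℕ) (r : ℕ) : ℕ :=
  ((∑ k : Fin D.rank, C r k * (f k : ℤ)) % (ℓ : ℤ)).toNat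

include hG hf

theorem exists_values (C : ℕ → ℕ → ℤ)
    (hC : ∀ r < D.nroots, ∀ j : Fin D.rank, (∑ k : Fin D.rank, C r k * D.cartan j.val (D.simple k.val)) =
      D.cartan j.val r)
    {ℓ : ℕ} [Fact ℓ.Prime] {ω : Fˣ} (hω : IsPrimitiveRoot ω ℓ) {t : GL D.Idx F}
    (ht : t ∈ D.diagonalSubgroup F) (htℓ : t ^ ℓ = 1) (ht1 : t ≠ 1) :
    ∃ f : Fin D.rank → ℕ, (∀ k, f k < ℓ) ∧ (∃ k, f k ≠ 0) ∧
      ∀ r < D.nroots, ∀ u, t * xe hG r u * t⁻¹ = xe hG r ((((ω ^ expo D C ℓ f r : Fˣ) : F)) * u) := by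
  classical
  haveI : NeZero ℓ := ⟨(Fact.out : ℓ.Prime).ne_zero⟩
  have ht' := ht
  rw [diagonal_eq_range hG] at ht'
  obtain ⟨c, hc⟩ := ht'
  have hroot : ∀ k : Fin D.rank, torusChar D c (D.simple k.val) ^ ℓ = 1 := by
    intro k
    have h1 : c ^ ℓ ∈ (torusHom F D).ker := by rw [MonoidHom.mem_ker, map_pow, hc, htℓ]
    have h2 := (mem_ker_torusHom hG).1 h1 k
    rw [← h2]
    simp only [torusChar, Pi.pow_apply, ← Finset.prod_pow]
    exact Finset.prod_congr rfl fun i _ => by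
      rw [← zpow_natCast, ← zpow_natCast, ← zpow_mul, ← zpow_mul, mul_comm]
  have hex : ∀ k : Fin D.rank, ∃ i < ℓ, ω ^ i = torusChar D c (D.simple k.val) := fun k => by
    obtain ⟨i, hi, e⟩ := (IsPrimitiveRoot.coe_units_iff.2 hω).eq_pow_of_pow_eq_one
      (ξ := ((torusChar D c (D.simple k.val) : Fˣ) : F))
      (by rw [← Units.val_pow_eq_pow_val, hroot, Units.val_one])
    exact ⟨i, hi, Units.ext (by rw [Units.val_pow_eq_pow_val]; exact e)⟩
  choose f hfl hfe using hex
  refine ⟨f, hfl, ?_, fun r hr u => ?_⟩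
  · by_contra h
    push Not at h
    refine ht1 ?_
    rw [← hc, ← MonoidHom.mem_ker, mem_ker_torusHom hG]
    intro k
    rw [← hfe k, h k, pow_zero]
  · have hval : torusChar D c r = ω ^ expo D C ℓ f r := by
      have h1 := prod_zpow_comb c (fun k : Fin D.rank => C r k)
      have h2 : ∏ i, c i ^ (∑ j : Fin D.rank, C r j * D.cartan i.val (D.simple j.val)) = torusChar D c r :=
        Finset.prod_congr rfl fun i _ => by rw [hC r hr i]
      rw [h2] at h1
      rw [← h1]
      have h3 : ∏ j : Fin D.rank, torusChar D c (D.simple j.val) ^ C r j =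
          ω ^ (∑ k : Fin D.rank, C r k * (f k : ℤ)) := by
        rw [zpow_finset_sum]
        exact Finset.prod_congr rfl fun j _ => by rw [← hfe j, ← zpow_natCast, ← zpow_mul, mul_comm]
      rw [h3, expo]
      have hℓ0 : (0 : ℤ) < ℓ := by exact_mod_cast (Fact.out : ℓ.Prime).pos
      conv_lhs => rw [← Int.ediv_mul_add_emod (∑ k : Fin D.rank, C r k * (f k : ℤ)) (ℓ : ℤ), zpow_add, mul_comm _ (ℓ : ℤ),
        zpow_mul, zpow_natCast, hω.pow_eq_one, one_zpow, one_mul]
      rw [← zpow_natCast, Int.toNat_of_nonneg (Int.emod_nonneg _ hℓ0.ne')]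
    have hneg : torusChar D c (D.neg r) = (torusChar D c r)⁻¹ := by
      simp only [torusChar, ← Finset.prod_inv_distrib]
      exact Finset.prod_congr rfl fun i _ => by rw [cartan_neg hG i.2 hr, zpow_neg]
    have hχ : (t : Matrix D.Idx D.Idx F) = hdiag D fun s => ((torusChar D c s : Fˣ) : F) := by
      rw [← hc, coe_torusHom]
    rw [Twisted.hdiag_conj_xe hG hf ht hχ hr u, hneg, hval, Units.val_inv_eq_inv_val, inv_inv]

/-- A monomial element which raises torus elements to powers transports their values. -/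
theorem monomial_values {n : GL D.Idx F} (hn : n ∈ (data hG F).N) :
    ∃ σ ∈ (data hG F).weyl, ∀ t ∈ D.diagonalSubgroup F, ∀ m : ℕ, n * t * n⁻¹ = t ^ m →
      ∀ (r : Fin D.nroots) (a b : F), (∀ u, t * xe hG r.val u * t⁻¹ = xe hG r.val (a * u)) →
        (∀ u, t * xe hG (σ r).val u * t⁻¹ = xe hG (σ r).val (b * u)) → b ^ m = a := by
  have ax := axioms (F := F) hG hf
  obtain ⟨h, hh, l, rfl⟩ := RootBN.Data.exists_word ax hn
  refine ⟨(data hG F).wl l, RootBN.Data.mem_weyl.2 ⟨l, rfl⟩, fun t ht m hconj r a b ha hb => ?_⟩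
  obtain ⟨χ, hχ⟩ : ∃ χ : ℕ → F, (h : Matrix D.Idx D.Idx F) = hdiag D χ := tri_H hf hG hh
  obtain ⟨η, hη, hη'⟩ := nw_conj_xe_sign hG hf (F := F) l r
  set s := ((data hG F).wl l r).val
  have hs : s < D.nroots := ((data hG F).wl l r).2
  set k := (χ (D.neg s))⁻¹ with hk
  have hn' : ∀ u, h * (data hG F).nw l * xe hG r.val u * (h * (data hG F).nw l)⁻¹ = xe hG s (k * (η * u)) := by
    intro u
    rw [show h * (data hG F).nw l * xe hG r.val u * (h * (data hG F).nw l)⁻¹ =
      h * ((data hG F).nw l * xe hG r.val u * ((data hG F).nw l)⁻¹) * h⁻¹ by group, hη',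
      Twisted.hdiag_conj_xe hG hf hh hχ hs]
  have hne : k * η ≠ 0 := by
    intro h0
    have h1 := hn' 1
    rw [mul_one, h0, xe_zero hG hs, conj_eq_one_iff] at h1
    exact xe_ne_one hG hf r.2 one_ne_zero h1
  have hpow : ∀ j : ℕ, ∀ u, t ^ j * xe hG s u * (t ^ j)⁻¹ = xe hG s (b ^ j * u) := by
    intro j
    induction j with
    | zero => intro u; simp
    | succ j ih =>
      intro u
      rw [pow_succ', show t * t ^ j * xe hG s u * (t * t ^ j)⁻¹ = t * (t ^ j * xe hG s u * (t ^ j)⁻¹) * t⁻¹ by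
        group, ih, hb, pow_succ', mul_assoc]
  have h1 := hn' (a * 1)
  rw [← ha] at h1
  have h2 : h * (data hG F).nw l * (t * xe hG r.val 1 * t⁻¹) * (h * (data hG F).nw l)⁻¹ =
      t ^ m * (h * (data hG F).nw l * xe hG r.val 1 * (h * (data hG F).nw l)⁻¹) * (t ^ m)⁻¹ := by
    rw [← hconj]; group
  rw [h2, hn', hpow] at h1
  have h3 := xe_right_cancel hG hf hs h1
  refine mul_right_cancel₀ hne ?_
  linear_combination h3

end Cfsg.Agent.AltSection
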