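/-
The index of a torus in a centraliser modulo a prime, by the fixed cosets of a torus element of that order; and
regular torus elements with trivial stabiliser are centralised only by the torus.
-/
import Cfsg.Agent.Lib.AltSection.RootValues
import Cfsg.Agent.Lib.AltSection.Chev
import Cfsg.Agent.Lib.Chev.BNCore

set_option autoImplicit false

namespace Cfsg.Agent.AltSection

open Cfsg.Lie Cfsg.Agent.Chev Cfsg.Agent.Chev.BNSetup
open Cfsg.Agent.RootBN (Data)

/-- Only the cosets in an overgroup normalising the torus are fixed: congruence of indices. -/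
theorem index_modEq {G : Type*} [Group G] [Finite G] {T N' : Subgroup G} (hTN : T ≤ N')
    (hnorm : ∀ g ∈ N', ∀ t ∈ T, g⁻¹ * t * g ∈ T) {ℓ : ℕ} [Fact ℓ.Prime] {s : G} (hs : s ∈ T) (hsℓ : s ^ ℓ = 1)
    (hfix : ∀ g : G, g⁻¹ * s * g ∈ T → g ∈ N') : T.index ≡ T.relIndex N' [MOD ℓ] := by
  classical
  have hp : IsPGroup ℓ (Subgroup.zpowers s) := IsPGroup.of_card_dvd_pow (n := 1) (by
    rw [Nat.card_zpowers, pow_one]; exact orderOf_dvd_of_pow_eq_one hsℓ)
  have h := hp.card_modEq_card_fixedPoints (G ⧸ T)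
  rw [Subgroup.index_eq_card]
  refine h.trans ?_
  rw [Subgroup.relIndex, Subgroup.index_eq_card]
  refine congrArg (· % ℓ) ?_
  symm
  refine Nat.card_eq_of_bijective
    (fun q : N' ⧸ T.subgroupOf N' => (⟨Quotient.liftOn' q (fun g => ((g : G) : G ⧸ T)) (fun a b hab => ?_), ?_⟩ :
      MulAction.fixedPoints (Subgroup.zpowers s) (G ⧸ T))) ⟨?_, ?_⟩
  · rw [QuotientGroup.eq]
    rw [QuotientGroup.leftRel_apply, Subgroup.mem_subgroupOf] at hab
    simpa using hab
  · induction q using QuotientGroup.induction_on with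
    | _ g =>
      intro z
      show ((z : G) * (g : G) : G ⧸ T) = ((g : G) : G ⧸ T)
      rw [QuotientGroup.eq]
      have hz : (z : G) ∈ T := by
        obtain ⟨i, hi⟩ := Subgroup.mem_zpowers_iff.1 z.2
        rw [← hi]
        exact T.zpow_mem hs i
      have := T.inv_mem (hnorm g g.2 _ hz)
      simpa [mul_assoc] using this
  · intro a b
    induction a using QuotientGroup.induction_on with
    | _ a =>
      induction b using QuotientGroup.induction_on with
      | _ b =>
        intro e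
        have e' : ((a : G) : G ⧸ T) = ((b : G) : G ⧸ T) := congrArg Subtype.val e
        rw [QuotientGroup.eq] at e' ⊢
        rw [Subgroup.mem_subgroupOf]
        simpa using e'
  · rintro ⟨q, hq⟩
    induction q using QuotientGroup.induction_on with
    | _ g =>
      have h1 : ((s * g : G) : G ⧸ T) = (g : G ⧸ T) := hq ⟨s, Subgroup.mem_zpowers s⟩
      rw [QuotientGroup.eq] at h1
      have h2 : g⁻¹ * s * g ∈ T := by
        have := T.inv_mem h1
        simpa [mul_assoc] using this
      exact ⟨QuotientGroup.mk (⟨g, hfix g h2⟩ : N'), rfl⟩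

variable {D : ChevalleyDatum} (hG : Good D) {tabs simps : List ℕ} (hf : Facts D tabs simps)
  {F : Type*} [Field F]
include hG hf

/-- An element centralising a regular torus element with trivial stabiliser lies in the torus. -/
theorem mem_torus_of_commute [Fintype F] (hcop : (Nat.card (data hG F).U).Coprime (Nat.card (data hG F).H))
    {y : GL D.Idx F} (hy : y ∈ D.diagonalSubgroup F) {a : Fin D.nroots → F}
    (ha : ∀ r : Fin D.nroots, ∀ u, y * xe hG r.val u * y⁻¹ = xe hG r.val (a r * u))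
    (hreg : ∀ r, a r ≠ 1) (hstab : ∀ σ ∈ (data hG F).weyl, (∀ r, a (σ r) = a r) → σ = 1)
    {g : GL D.Idx F} (hg : g ∈ (data hG F).grp) (hgy : g * y * g⁻¹ = y) : g ∈ D.diagonalSubgroup F := by
  classical
  have ax := axioms (F := F) hG hf
  obtain ⟨b, hb, l, c, hc', rfl⟩ := Data.exists_normal_form ax hg
  have hc : c ∈ (data hG F).U := Data.Um_le_U _ hc'
  obtain ⟨u, hu, h, hh, rfl⟩ := (Data.mem_B_iff ax).1 hb
  -- the cell is trivial
  have hnw : (data hG F).nw l ∈ (data hG F).N := Data.nw_mem_N l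
  set n := h * (data hG F).nw l with hn
  have hnN : n ∈ (data hG F).N := (data hG F).N.mul_mem (Data.H_le_N hh) hnw
  have hyH : y ∈ (data hG F).H := hy
  -- `y` times the product is the product times `y`
  have hU1 : y * u * y⁻¹ ∈ (data hG F).U := Data.H_conj_U ax hyH hu
  have hU2 : y * c * y⁻¹ ∈ (data hG F).U := Data.H_conj_U ax hyH hc
  have e : (y * u * y⁻¹) * (y * n * y⁻¹) * (y * c * y⁻¹) = u * n * c := by
    calc _ = y * (u * n * c) * y⁻¹ := by group
      _ = u * n * c := by
          have h1 : (u * n * c) * y = y * (u * n * c) := by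
            rw [← mul_inv_eq_iff_eq_mul]
            simpa [hn, mul_assoc] using hgy
          rw [← h1, mul_inv_cancel_right]
  obtain ⟨σ, hσ, hval⟩ := monomial_values hG hf hnN
  have hny : n * y * n⁻¹ = y := by
    have hN1 : y * n * y⁻¹ ∈ (data hG F).N :=
      (data hG F).N.mul_mem ((data hG F).N.mul_mem (Data.H_le_N hyH) hnN) ((data hG F).N.inv_mem (Data.H_le_N hyH))
    have hH := Data.inv_mul_mem_H_of_eq ax hnN hN1 (Data.U_le_B hu) (Data.U_le_B hU1) (Data.U_le_B hc)
      (Data.U_le_B hU2) e.symm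
    set w := n⁻¹ * (y * n * y⁻¹) with hw
    have hwu : n⁻¹ * (u⁻¹ * (y * u * y⁻¹)) * n * w * ((y * c * y⁻¹) * c⁻¹) = 1 := by
      have e2 : y * u * y⁻¹ * (n * w) * (y * c * y⁻¹) = u * n * c := by rw [hw, ← e]; group
      calc _ = n⁻¹ * u⁻¹ * ((y * u * y⁻¹) * (n * w) * (y * c * y⁻¹)) * c⁻¹ := by group
        _ = _ := by rw [e2]; group
    have hxB : w * ((y * c * y⁻¹) * c⁻¹) ∈ (data hG F).B :=
      (data hG F).B.mul_mem (Data.H_le_B hH)
        (Data.U_le_B ((data hG F).U.mul_mem hU2 ((data hG F).U.inv_mem hc)))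
    have hu1 : u⁻¹ * (y * u * y⁻¹) ∈ (data hG F).U := (data hG F).U.mul_mem ((data hG F).U.inv_mem hu) hU1
    have hxp : (w * ((y * c * y⁻¹) * c⁻¹)) ^ Nat.card (data hG F).U = 1 := by
      rw [show w * ((y * c * y⁻¹) * c⁻¹) = (n⁻¹ * (u⁻¹ * (y * u * y⁻¹)) * n)⁻¹ from
        eq_inv_of_mul_eq_one_right (by rw [← mul_assoc]; exact hwu), inv_pow,
        show n⁻¹ * (u⁻¹ * (y * u * y⁻¹)) * n = n⁻¹ * (u⁻¹ * (y * u * y⁻¹)) * (n⁻¹)⁻¹ by rw [inv_inv], conj_pow,
        show (u⁻¹ * (y * u * y⁻¹)) ^ Nat.card (data hG F).U = 1 from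
          congrArg Subtype.val (pow_card_eq_one' (x := (⟨_, hu1⟩ : (data hG F).U)))]
      group
    have hxU := Data.mem_U_of_pow ax hcop hxB hxp
    have hwU : w ∈ (data hG F).U := by
      have := (data hG F).U.mul_mem hxU ((data hG F).U.inv_mem
        ((data hG F).U.mul_mem hU2 ((data hG F).U.inv_mem hc)))
      simpa [mul_assoc] using this
    have hw1 : w = 1 := (Subgroup.eq_bot_iff_forall _).1
      (disjoint_iff.1 (Subgroup.disjoint_of_coprime_natCard hcop)) _ ⟨hwU, hH⟩
    rw [hw, inv_mul_eq_one] at hw1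
    have h2 : n * y = y * n := by
      rw [eq_mul_inv_iff_mul_eq] at hw1
      exact hw1
    rw [h2, mul_inv_cancel_right]
  have hσ1 : σ = 1 := hstab σ hσ fun r => by
    have := hval y hy 1 (by rw [pow_one]; exact hny) r (a r) (a (σ r)) (ha r) (ha (σ r))
    simpa using this
  -- so the product lies in the Borel group
  have hlB : (data hG F).nw l ∈ (data hG F).H := by
    have hny2 : (data hG F).nw l * y * ((data hG F).nw l)⁻¹ = y := by
      have hcomm : h⁻¹ * y * h = y := by
        rw [mul_assoc, AltSection.H_comm hG y hyH h hh, inv_mul_cancel_left]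
      calc _ = h⁻¹ * (n * y * n⁻¹) * h := by rw [hn]; group
        _ = _ := by rw [hny, hcomm]
    have hl1 : (data hG F).wl l = 1 := hstab _ (Data.mem_weyl.2 ⟨l, rfl⟩) fun r => by
      obtain ⟨η, hη, hη'⟩ := nw_conj_xe_sign hG hf (F := F) l r
      have hne : η ≠ 0 := by
        intro h0
        have h1 := hη' 1
        rw [h0, zero_mul, xe_zero hG ((data hG F).wl l r).2, conj_eq_one_iff] at h1
        exact xe_ne_one hG hf r.2 one_ne_zero h1
      have h1 := hη' (a r * 1)
      rw [← ha, show (data hG F).nw l * (y * xe hG r.val 1 * y⁻¹) * ((data hG F).nw l)⁻¹ =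
        ((data hG F).nw l * y * ((data hG F).nw l)⁻¹) * ((data hG F).nw l * xe hG r.val 1 * ((data hG F).nw l)⁻¹) *
          ((data hG F).nw l * y * ((data hG F).nw l)⁻¹)⁻¹ by group, hny2, hη', ha] at h1
      have h3 := xe_right_cancel hG hf ((data hG F).wl l r).2 h1
      refine mul_right_cancel₀ hne ?_
      linear_combination h3
    refine Data.mem_H_of_pos_preserving ax hnw (Data.acts_nw ax l) fun r hr => ?_
    rw [hl1]
    simpa using hr
  have hgB : u * h * (data hG F).nw l * c ∈ (data hG F).B :=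
    (data hG F).B.mul_mem ((data hG F).B.mul_mem hb (Data.H_le_B hlB)) (Data.U_le_B hc)
  obtain ⟨u₁, hu₁, h₁, hh₁, e₁⟩ := (Data.mem_B_iff ax).1 hgB
  rw [e₁] at hgy ⊢
  have hu1y : y * u₁ * y⁻¹ = u₁ := by
    have hcomm : h₁ * y * h₁⁻¹ = y := by rw [AltSection.H_comm hG h₁ hh₁ y hyH, mul_inv_cancel_right]
    have h2 : u₁ * y * u₁⁻¹ = y := by
      calc u₁ * y * u₁⁻¹ = u₁ * (h₁ * y * h₁⁻¹) * u₁⁻¹ := by rw [hcomm]
        _ = u₁ * h₁ * y * (u₁ * h₁)⁻¹ := by group
        _ = y := hgy
    calc y * u₁ * y⁻¹ = (u₁ * y * u₁⁻¹) * u₁ * y⁻¹ := by rw [h2]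
      _ = u₁ := by group
  rw [data_U hG hf, ← Uge_eq_U hG hf] at hu₁
  have hsum : D.nroots / 2 + (D.nroots - D.nroots / 2) = D.nroots := by omega
  obtain ⟨t, ht, rfl⟩ := exists_prodFrom hG hf hsum le_rfl _ hu₁
  have hconj : ∀ m k, k + m ≤ D.nroots → y * prodFrom hG F t k m * y⁻¹ =
      prodFrom hG F (fun r => if hr : r < D.nroots then a ⟨r, hr⟩ * t r else 0) k m := by
    intro m
    induction m with
    | zero => intro k _; simp [prodFrom]
    | succ m ih =>
      intro k hk
      rw [prodFrom, prodFrom, ← ih (k + 1) (by omega), dif_pos (by omega), ← ha ⟨k, by omega⟩ (t k)]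
      group
  rw [hconj _ _ hsum.le] at hu1y
  have hu10 : prodFrom hG F t (D.nroots / 2) (D.nroots - D.nroots / 2) = 1 := by
    have ht0 : ∀ r, D.nroots / 2 ≤ r → r < D.nroots → t r = 0 := by
      intro r hr1 hr2
      have h3 := prodFrom_inj hG hf hsum le_rfl hu1y r hr1 hr2
      rw [dif_pos hr2] at h3
      by_contra h0
      exact hreg ⟨r, hr2⟩ (mul_right_cancel₀ h0 (by rw [h3, one_mul]))
    have : ∀ m k, k + m ≤ D.nroots → D.nroots / 2 ≤ k → prodFrom hG F t k m = 1 := by
      intro m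
      induction m with
      | zero => intros; rfl
      | succ m ih =>
        intro k hk hk'
        rw [prodFrom, ht0 k hk' (by omega), xe_zero hG (by omega), one_mul, ih _ (by omega) (by omega)]
    exact this _ _ hsum.le le_rfl
  rw [hu10, one_mul]
  exact hh₁

end Cfsg.Agent.AltSection
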