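/-
Values of torus elements on the root elements, written with exponents of a root of unity, and their transport by
monomial elements and by the field automorphism.
-/
import Cfsg.Agent.Lib.AltSection.RootValues
import Cfsg.Agent.Lib.AltSection.Chev

set_option autoImplicit false

namespace Cfsg.Agent.AltSection

open Cfsg.Lie Cfsg.Agent.Chev Cfsg.Agent.Chev.BNSetup
open Cfsg.Agent.RootBN (Data)

variable {D : ChevalleyDatum} (hG : Good D) {F : Type*} [Field F]

/-- `t` multiplies the parameter at `r` by `a r`. -/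
def HasValues (t : GL D.Idx F) (a : Fin D.nroots → F) : Prop :=
  ∀ r : Fin D.nroots, ∀ u, t * xe hG r.val u * t⁻¹ = xe hG r.val (a r * u)

/-- The powers of a root of unity. -/
def pw (ω : Fˣ) (z : ℤ) : F := ((ω ^ z : Fˣ) : F)

omit hG in
theorem pw_eq_iff {ω : Fˣ} {ℓ : ℕ} (hω : IsPrimitiveRoot ω ℓ) {a b : ℤ} : pw ω a = pw ω b ↔ a ≡ b [ZMOD ℓ] := by
  rw [pw, pw, Units.val_inj, Int.modEq_comm, Int.modEq_iff_dvd, ← hω.zpow_eq_one_iff_dvd, zpow_sub,
    mul_inv_eq_one]

omit hG in
theorem pw_pow (ω : Fˣ) (a : ℤ) (m : ℕ) : pw ω a ^ m = pw ω ((m : ℤ) * a) := by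
  rw [pw, pw, ← Units.val_pow_eq_pow_val, ← zpow_natCast, ← zpow_mul, mul_comm]

variable {hG}

theorem HasValues.mul {t s : GL D.Idx F} {a b : Fin D.nroots → F} (ht : HasValues hG t a)
    (hs : HasValues hG s b) : HasValues hG (t * s) (fun r => a r * b r) := fun r u => by
  rw [show t * s * xe hG r.val u * (t * s)⁻¹ = t * (s * xe hG r.val u * s⁻¹) * t⁻¹ by group, hs, ht, mul_assoc]

theorem HasValues.pow {t : GL D.Idx F} {a : Fin D.nroots → F} (ht : HasValues hG t a) :
    ∀ m : ℕ, HasValues hG (t ^ m) (fun r => a r ^ m)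
  | 0 => fun r u => by simp
  | m + 1 => by
    have h := (HasValues.pow ht m).mul ht
    simp only [← pow_succ] at h
    exact h

variable {tabs simps : List ℕ} (hf : Facts D tabs simps)
include hf

theorem HasValues.unique {t : GL D.Idx F} {a b : Fin D.nroots → F} (ha : HasValues hG t a)
    (hb : HasValues hG t b) (r : Fin D.nroots) : a r = b r := by
  have h := (ha r 1).symm.trans (hb r 1)
  simpa using xe_right_cancel hG hf r.2 h

theorem HasValues.nw_conj {t : GL D.Idx F} {a : Fin D.nroots → F} (ha : HasValues hG t a)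
    (l : List (Fin D.rank)) :
    HasValues hG ((data hG F).nw l * t * ((data hG F).nw l)⁻¹) (fun r => a (((data hG F).wl l)⁻¹ r)) := by
  intro r u
  obtain ⟨s, rfl⟩ := ((data hG F).wl l).surjective r
  obtain ⟨η, -, hη'⟩ := nw_conj_xe_sign hG hf (F := F) l s
  have hne : η ≠ 0 := by
    intro h0
    have h1 := hη' 1
    rw [h0, zero_mul, xe_zero hG ((data hG F).wl l s).2, conj_eq_one_iff] at h1
    exact xe_ne_one hG hf s.2 one_ne_zero h1
  simp only [Equiv.Perm.inv_def, Equiv.symm_apply_apply]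
  calc (data hG F).nw l * t * ((data hG F).nw l)⁻¹ * xe hG ((data hG F).wl l s).val u *
        ((data hG F).nw l * t * ((data hG F).nw l)⁻¹)⁻¹
      = (data hG F).nw l * t * ((data hG F).nw l)⁻¹ *
          ((data hG F).nw l * xe hG s.val (η⁻¹ * u) * ((data hG F).nw l)⁻¹) *
        ((data hG F).nw l * t * ((data hG F).nw l)⁻¹)⁻¹ := by
        rw [hη', ← mul_assoc, mul_inv_cancel₀ hne, one_mul]
    _ = (data hG F).nw l * (t * xe hG s.val (η⁻¹ * u) * t⁻¹) * ((data hG F).nw l)⁻¹ := by group
    _ = _ := by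
      rw [ha, hη']
      congr 1
      field_simp

/-- A monomial element powering torus elements: one word serves all of them. -/
theorem monomial_relation [Fintype F] {n : GL D.Idx F} (hn : n ∈ (data hG F).N) :
    ∃ l : List (Fin D.rank), (∃ h ∈ (data hG F).H, n = h * (data hG F).nw l) ∧
      ∀ t ∈ (data hG F).H, ∀ (m : ℕ) (a : Fin D.nroots → F), HasValues hG t a → n * t * n⁻¹ = t ^ m →
        ∀ r, a ((data hG F).wl l r) ^ m = a r := by
  have ax := axioms (F := F) hG hf
  obtain ⟨h, hh, l, rfl⟩ := Data.exists_word ax hn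
  refine ⟨l, ⟨h, hh, rfl⟩, fun t ht m a ha e r => ?_⟩
  have hH : (data hG F).nw l * t * ((data hG F).nw l)⁻¹ ∈ (data hG F).H := Data.nw_H ax l ht
  have e' : (data hG F).nw l * t * ((data hG F).nw l)⁻¹ = t ^ m := by
    rw [← e, show h * (data hG F).nw l * t * (h * (data hG F).nw l)⁻¹ =
      h * ((data hG F).nw l * t * ((data hG F).nw l)⁻¹) * h⁻¹ by group, H_comm hG h hh _ hH, mul_inv_cancel_right]
  have h1 := (e' ▸ ha.nw_conj hf l).unique hf (ha.pow m) ((data hG F).wl l r)
  simpa using h1.symm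

omit hf

/-- The entrywise image of a torus element under the Frobenius is its power. -/
theorem entryMap_frobenius_diagonal (hG : Good D) (hf : Facts D tabs simps) (p : ℕ) [ExpChar F p] {t : GL D.Idx F}
    (ht : t ∈ D.diagonalSubgroup F) : entryMap D (frobenius F p) t = t ^ p := by
  obtain ⟨χ, hχ⟩ := tri_H hf hG ht
  apply Units.ext
  show ((t : Matrix D.Idx D.Idx F)).map (frobenius F p) = ((t ^ p : GL D.Idx F) : Matrix D.Idx D.Idx F)
  rw [Units.val_pow_eq_pow_val, hχ, hdiag, Matrix.diagonal_pow, Matrix.diagonal_map (map_zero _)]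
  congr 1

/-- Torus elements with prescribed exponents on the fundamental coroots. -/
theorem exists_torus_values (hG : Good D) (hf : Facts D tabs simps) (ω : Fˣ) (e : Fin D.rank → ℤ) {ℓ : ℕ}
    (hω : IsPrimitiveRoot ω ℓ) :
    ∃ s ∈ D.diagonalSubgroup F, s ^ ℓ = 1 ∧
      HasValues hG s (fun r => pw ω (∑ i : Fin D.rank, e i * D.cartan i.val r.val)) := by
  set c : Fin D.rank → Fˣ := fun i => ω ^ e i with hc
  have hs : torusHom F D c ∈ D.diagonalSubgroup F := by
    rw [diagonal_eq_range hG]; exact ⟨c, rfl⟩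
  refine ⟨torusHom F D c, hs, ?_, fun r u => ?_⟩
  · rw [← map_pow, show c ^ ℓ = 1 from ?_, map_one]
    funext i
    rw [Pi.pow_apply, hc, Pi.one_apply, ← zpow_natCast, ← zpow_mul, mul_comm, zpow_mul, zpow_natCast, hω.pow_eq_one,
      one_zpow]
  · have hneg : torusChar D c (D.neg r.val) = (torusChar D c r.val)⁻¹ := by
      simp only [torusChar, ← Finset.prod_inv_distrib]
      exact Finset.prod_congr rfl fun i _ => by rw [cartan_neg hG i.2 r.2, zpow_neg]
    have hχ : (torusHom F D c : Matrix D.Idx D.Idx F) = hdiag D fun s => ((torusChar D c s : Fˣ) : F) := by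
      rw [coe_torusHom]
    have hval : torusChar D c r.val = ω ^ (∑ i : Fin D.rank, e i * D.cartan i.val r.val) := by
      rw [zpow_finset_sum]
      exact Finset.prod_congr rfl fun i _ => by rw [hc, ← zpow_mul]
    rw [Twisted.hdiag_conj_xe hG hf hs hχ r.2 u, hneg, hval, Units.val_inv_eq_inv_val, inv_inv]
    rfl

end Cfsg.Agent.AltSection
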