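/-
A Sylow 2-subgroup of the alternating group of degree eight has no abelian subgroup of order sixteen with at most
four elements squaring to one. Hence there is no such section in a group whose Sylow 2-subgroups lie in the
normaliser of a two-generated abelian subgroup with quotient of 2-part at most four.
-/
import Cfsg.Agent.Lib.AltSection.General

set_option autoImplicit false

namespace Cfsg.Agent.AltSection

/-- Generators of a Sylow 2-subgroup of `A₈`. -/
def gens8 : List (Equiv.Perm (Fin 8)) :=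
  [Equiv.swap 0 1 * Equiv.swap 2 3, Equiv.swap 0 1 * Equiv.swap 4 5, Equiv.swap 0 1 * Equiv.swap 6 7,
    Equiv.swap 0 2 * Equiv.swap 1 3, Equiv.swap 4 6 * Equiv.swap 5 7,
    Equiv.swap 0 4 * Equiv.swap 1 5 * Equiv.swap 2 6 * Equiv.swap 3 7]

/-- The images of the points under the sixty-four elements, base eight. -/
def imgCode : ℕ := 49189901298459070728579360082434459757334908922852593134111504287006409348245301322359298871395675975258783862168684390697879479745277716054832296344139452441659131483251327469334974982472504579682282437763255653725013323479174995645708585940607805219020448378059453381171703633935273933680629681126895771716028614195269253494191265747849483094883135297865633074557180861687703203475715104378146552802167556763742073183517032247598131007760004404264619665442440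

/-- The images of the points under the generators, base eight. -/
def genCode : ℕ := 9108567676684979379641212577553296983246017

/-- The products of generators and elements, base sixty-four. -/
def stepCode : ℕ := 1835817010537079987827310202450372102563212958027930798552573497090103716658909543667691224039478788997704966378606526618673368027472234901926561081857742302734412597456327760785575968740628119321107089484397773451268058769292445524191628715084647348809677972080452405844923335998433051851938399655644239490096917478108305133363306337347266880648590173176592494647620521667868558266661605096456659072740122278680866077837895108821969645871705829433809522731777182779988634976457956818851764212432392756389316942604421024624208809224491205338199313944705720336995406248388494728113825135894524605049680646536171153695162717271665455739849987860947649922872955162045951154371176866031185571622913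

/-- The image of `i` under the `k`-th element. -/
def tb (k i : ℕ) : ℕ := imgCode / 8 ^ (8 * k + i) % 8

/-- The image of `i` under the `j`-th generator. -/
def gi (j i : ℕ) : ℕ := genCode / 8 ^ (8 * j + i) % 8

/-- The number of the `j`-th generator times the `k`-th element. -/
def stp (j k : ℕ) : ℕ := stepCode / 64 ^ (64 * j + k) % 64

/-- The word of the `k`-th element. -/
def word8 (k : ℕ) : List ℕ := (List.range 6).filter fun j => k.testBit j

/-- The product of the word of the `k`-th element. -/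
def elt8 (k : ℕ) : Equiv.Perm (Fin 8) := ((word8 k).map fun j => gens8.getD j 1).prod

theorem gens8_img : ∀ j : Fin 6, ∀ i : Fin 8, ((gens8.getD j.val 1) i).val = gi j.val i.val := by
  decide +kernel

theorem gi_sq : ∀ j : Fin 6, ∀ i : Fin 8, gi j.val (gi j.val i.val) = i.val := by decide +kernel

theorem gens8_sq (g : Equiv.Perm (Fin 8)) (hg : g ∈ gens8) (i : Fin 8) : g (g i) = i := by
  obtain ⟨j, hj, rfl⟩ := List.getElem_of_mem hg
  rw [← List.getD_eq_getElem gens8 1 hj]
  apply Fin.ext
  rw [gens8_img ⟨j, hj⟩, gens8_img ⟨j, hj⟩]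
  exact gi_sq ⟨j, hj⟩ i

theorem gens8_sign (g : Equiv.Perm (Fin 8)) (hg : g ∈ gens8) : Equiv.Perm.sign g = 1 := by
  simp only [gens8, List.mem_cons, List.not_mem_nil, or_false] at hg
  rcases hg with rfl | rfl | rfl | rfl | rfl | rfl <;> simp [Equiv.Perm.sign_swap]

/-- The finite checks. -/
def checks : Bool :=
  ((List.range 64).all fun k => (List.range 8).all fun i => tb k i == (word8 k).foldr gi i) &&
  ((List.range 6).all fun j => (List.range 64).all fun k => (List.range 8).all fun i =>
    gi j (tb k i) == tb (stp j k) i) &&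
  ((List.range 64).all fun k => (List.range k).all fun k' => (List.range 8).any fun i => tb k i != tb k' i) &&
  ((List.range 64).all fun k => (List.range 8).all fun i => tb k (tb k (tb k (tb k i))) == i) &&
  ((List.range 64).all fun k => ((List.range 8).all fun i => tb k (tb k i) == i) ||
    (List.range 64).all fun k' => ((List.range 8).any fun i => tb k (tb k' i) != tb k' (tb k i)) ||
      ((List.range 8).all fun i => tb k' (tb k' i) == i) ||
      ((List.range 8).all fun i => tb k (tb k i) == tb k' (tb k' i)))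

theorem checks_ok : checks = true := by decide +kernel

theorem checks_spec :
    (∀ k < 64, ∀ i < 8, tb k i = (word8 k).foldr gi i) ∧
    (∀ j < 6, ∀ k < 64, ∀ i < 8, gi j (tb k i) = tb (stp j k) i) ∧
    (∀ k < 64, ∀ k' < k, ∃ i < 8, tb k i ≠ tb k' i) ∧
    (∀ k < 64, ∀ i < 8, tb k (tb k (tb k (tb k i))) = i) ∧
    (∀ k < 64, (∀ i < 8, tb k (tb k i) = i) ∨ ∀ k' < 64, ((∃ i < 8, tb k (tb k' i) ≠ tb k' (tb k i)) ∨
      ∀ i < 8, tb k' (tb k' i) = i) ∨ ∀ i < 8, tb k (tb k i) = tb k' (tb k' i)) := by
  have h := checks_ok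
  simpa [checks, List.all_eq_true, List.any_eq_true, bne_iff_ne, beq_iff_eq, Bool.or_eq_true, and_assoc] using h

theorem elt8_img {k : ℕ} (hk : k < 64) (i : Fin 8) : (elt8 k i).val = tb k i.val := by
  rw [checks_spec.1 k hk i.val i.2, elt8]
  have hw : ∀ j ∈ word8 k, j < 6 := fun j hj => List.mem_range.1 (List.mem_filter.1 hj).1
  revert hw
  induction word8 k with
  | nil => intro _; rfl
  | cons j l ih =>
    intro hw
    rw [List.map_cons, List.prod_cons, Equiv.Perm.mul_apply, List.foldr_cons,
      gens8_img ⟨j, hw j List.mem_cons_self⟩, ih fun x hx => hw x (List.mem_cons_of_mem _ hx)]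

theorem eq_of_img {a b : Equiv.Perm (Fin 8)} (h : ∀ i, (a i).val = (b i).val) : a = b :=
  Equiv.ext fun i => Fin.ext (h i)

theorem mem_closure_gens8 {a : Equiv.Perm (Fin 8)} :
    a ∈ Subgroup.closure {g | g ∈ gens8} ↔ ∃ k < 64, a = elt8 k := by
  have hgen : ∀ g ∈ gens8, ∀ k < 64, ∃ k' < 64, g * elt8 k = elt8 k' := by
    intro g hg k hk
    obtain ⟨j, hj, rfl⟩ := List.getElem_of_mem hg
    have hj6 : j < 6 := hj
    have hlt : stp j k < 64 := Nat.mod_lt _ (by norm_num)
    refine ⟨stp j k, hlt, eq_of_img fun i => ?_⟩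
    rw [Equiv.Perm.mul_apply, ← List.getD_eq_getElem gens8 1 hj, gens8_img ⟨j, hj6⟩, elt8_img hk, elt8_img hlt,
      checks_spec.2.1 j hj6 k hk i.val i.2]
  constructor
  · intro h
    induction h using Subgroup.closure_induction_left with
    | one => exact ⟨0, by norm_num, rfl⟩
    | mul_left x hx y _ ih =>
      obtain ⟨k, hk, rfl⟩ := ih
      exact hgen x hx k hk
    | inv_mul_cancel x hx y _ ih =>
      obtain ⟨k, hk, rfl⟩ := ih
      rw [inv_eq_of_mul_eq_one_right (show x * x = 1 from Equiv.ext (gens8_sq x hx))]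
      exact hgen x hx k hk
  · rintro ⟨k, hk, rfl⟩
    refine Subgroup.list_prod_mem _ fun g hg => ?_
    obtain ⟨j, hj, rfl⟩ := List.mem_map.1 hg
    have hj6 : j < gens8.length := List.mem_range.1 (List.mem_filter.1 hj).1
    rw [List.getD_eq_getElem _ _ hj6]
    exact Subgroup.subset_closure (List.getElem_mem hj6)

theorem elt8_pow_four {k : ℕ} (hk : k < 64) : elt8 k ^ 4 = 1 :=
  eq_of_img fun i => by
    show (elt8 k (elt8 k (elt8 k (elt8 k i)))).val = i.val
    simp only [elt8_img hk, checks_spec.2.2.2.1 k hk i.val i.2]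

theorem elt8_pairs {k k' : ℕ} (hk : k < 64) (hk' : k' < 64) (h : elt8 k * elt8 k' = elt8 k' * elt8 k) :
    elt8 k * elt8 k = 1 ∨ elt8 k' * elt8 k' = 1 ∨ elt8 k * elt8 k = elt8 k' * elt8 k' := by
  rcases checks_spec.2.2.2.2 k hk with h1 | h1
  · exact Or.inl (eq_of_img fun i => by
      rw [Equiv.Perm.mul_apply, elt8_img hk, elt8_img hk]; exact h1 i.val i.2)
  rcases h1 k' hk' with (⟨i, hi, hne⟩ | h2) | h2
  · refine absurd ?_ hne
    have := congrArg (fun a : Equiv.Perm (Fin 8) => (a ⟨i, hi⟩).val) h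
    simpa only [Equiv.Perm.mul_apply, elt8_img hk, elt8_img hk'] using this
  · exact Or.inr (Or.inl (eq_of_img fun i => by
      rw [Equiv.Perm.mul_apply, elt8_img hk', elt8_img hk']; exact h2 i.val i.2))
  · exact Or.inr (Or.inr (eq_of_img fun i => by
      rw [Equiv.Perm.mul_apply, Equiv.Perm.mul_apply, elt8_img hk, elt8_img hk, elt8_img hk', elt8_img hk']
      exact h2 i.val i.2))

/-- A Sylow 2-subgroup of `A₈`. -/
def syl8 : Subgroup (alternatingGroup (Fin 8)) :=
  (Subgroup.closure {g : Equiv.Perm (Fin 8) | g ∈ gens8}).subgroupOf _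

theorem mem_syl8 {a : alternatingGroup (Fin 8)} :
    a ∈ syl8 ↔ ∃ k < 64, (a : Equiv.Perm (Fin 8)) = elt8 k :=
  mem_closure_gens8

theorem card_syl8 : Nat.card syl8 = 64 := by
  have hle : Subgroup.closure {g : Equiv.Perm (Fin 8) | g ∈ gens8} ≤ alternatingGroup (Fin 8) :=
    (Subgroup.closure_le _).2 fun g hg => Equiv.Perm.mem_alternatingGroup.2 (gens8_sign g hg)
  rw [syl8, Nat.card_congr (Subgroup.subgroupOfEquivOfLe hle).toEquiv, ← Nat.card_fin 64]
  symm
  refine Nat.card_congr (Equiv.ofBijective (fun k : Fin 64 =>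
    (⟨elt8 k.val, mem_closure_gens8.2 ⟨k.val, k.2, rfl⟩⟩ : Subgroup.closure {g | g ∈ gens8})) ⟨?_, ?_⟩)
  · intro k k' h
    have h' : elt8 k.val = elt8 k'.val := congrArg Subtype.val h
    by_contra hne
    rcases lt_or_gt_of_ne (fun e => hne (Fin.ext e)) with hlt | hlt
    · obtain ⟨i, hi, hne'⟩ := checks_spec.2.2.1 k'.val k'.2 k.val hlt
      exact hne' (by rw [← elt8_img k.2 ⟨i, hi⟩, ← elt8_img k'.2 ⟨i, hi⟩, h'])
    · obtain ⟨i, hi, hne'⟩ := checks_spec.2.2.1 k.val k.2 k'.val hlt
      exact hne' (by rw [← elt8_img k.2 ⟨i, hi⟩, ← elt8_img k'.2 ⟨i, hi⟩, h'])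
  · rintro ⟨a, ha⟩
    obtain ⟨k, hk, rfl⟩ := mem_closure_gens8.1 ha
    exact ⟨⟨k, hk⟩, rfl⟩

theorem card_A8 : Nat.card (alternatingGroup (Fin 8)) = 20160 := by
  rw [nat_card_alternatingGroup, Nat.card_fin]
  rfl

variable {G : Type*} [Group G] [Finite G]

/-- The squaring map of a commutative subgroup. -/
def sqHom {A : Subgroup G} (hc : ∀ a ∈ A, ∀ b ∈ A, a * b = b * a) : A →* A :=
  MonoidHom.mk' (fun a => a ^ 2) fun a b => (show Commute a b from Subtype.ext (hc _ a.2 _ b.2)).mul_pow 2

theorem no_eight_section {A Nn : Subgroup G} (hAN : A ≤ Nn)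
    (hnorm : ∀ n ∈ Nn, ∀ a ∈ A, n * a * n⁻¹ ∈ A) (hc : ∀ a ∈ A, ∀ b ∈ A, a * b = b * a)
    (h2 : Nat.card {a : A // a ^ 2 = 1} ≤ 4) (hodd : ¬ 2 ∣ Nn.index) (h8 : ¬ 8 ∣ A.relIndex Nn)
    {H : Subgroup G} (φ : H →* alternatingGroup (Fin 8)) (hφ : Function.Surjective φ) : False := by
  classical
  haveI : Fact (Nat.Prime 2) := ⟨Nat.prime_two⟩
  obtain ⟨R⟩ : Nonempty (Sylow 2 H) := inferInstance
  obtain ⟨R'⟩ : Nonempty (Sylow 2 Nn) := inferInstance
  obtain ⟨S, hS⟩ := (R.isPGroup'.map H.subtype).exists_le_sylow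
  obtain ⟨S', hS'⟩ := (R'.isPGroup'.map Nn.subtype).exists_le_sylow
  have hS'eq : (R' : Subgroup Nn).map Nn.subtype = S' := by
    refine Subgroup.eq_of_le_of_card_ge hS' ?_
    rw [Subgroup.card_map_of_injective Nn.subtype_injective, Sylow.card_eq_multiplicity,
      Sylow.card_eq_multiplicity]
    refine Nat.pow_le_pow_right two_pos (le_of_eq ?_)
    rw [← Subgroup.card_mul_index Nn, Nat.factorization_mul Nat.card_pos.ne' Subgroup.index_ne_zero_of_finite,
      Finsupp.add_apply, Nat.factorization_eq_zero_of_not_dvd hodd, add_zero]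
  obtain ⟨c, hc'⟩ := MulAction.exists_smul_eq G S S'
  have hmem : ∀ r : (R : Subgroup H), c * ((r : H) : G) * c⁻¹ ∈ Nn := by
    intro r
    have h1 : MulAut.conj c • ((r : H) : G) ∈ (S' : Subgroup G) := by
      rw [← hc', Sylow.coe_subgroup_smul]
      exact Subgroup.smul_mem_pointwise_smul _ (MulAut.conj c) _ (hS ⟨_, r.2, rfl⟩)
    rw [← hS'eq] at h1
    obtain ⟨t, -, ht⟩ := h1
    have h2 : c * ((r : H) : G) * c⁻¹ = (t : G) := ht.symm
    rw [h2]; exact t.2
  -- the part in `A`
  set ψ : (R : Subgroup H) →* Nn := ((MulAut.conj c).toMonoidHom.comp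
    (H.subtype.comp (R : Subgroup H).subtype)).codRestrict Nn hmem with hψ
  haveI : (A.subgroupOf Nn).Normal := ⟨fun a ha n => hnorm _ n.2 _ ha⟩
  set Q := (A.subgroupOf Nn).comap ψ with hQ
  have hQidx : Q.index ≤ 4 := by
    have hd : Q.index ∣ A.relIndex Nn := by
      have e : Q = ((QuotientGroup.mk' (A.subgroupOf Nn)).comp ψ).ker := by
        ext r; simp [hQ]
      rw [e, Subgroup.index_ker]
      exact Subgroup.card_subgroup_dvd_card _
    obtain ⟨k, hk⟩ := R.isPGroup'.index Q
    rw [hk] at hd ⊢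
    rcases le_or_gt k 2 with hk2 | hk2
    · exact le_trans (Nat.pow_le_pow_right two_pos hk2) (by norm_num)
    · exact absurd ((Nat.pow_dvd_pow 2 hk2).trans hd) h8
  have hQc : ∀ a ∈ Q, ∀ b ∈ Q, a * b = b * a := by
    intro a ha b hb
    have := hc _ ha _ hb
    apply Subtype.ext
    apply Subtype.ext
    change MulAut.conj c (((a : H) : G)) * MulAut.conj c (((b : H) : G)) =
      MulAut.conj c (((b : H) : G)) * MulAut.conj c (((a : H) : G)) at this
    rw [← map_mul, ← map_mul] at this
    exact (MulAut.conj c).injective this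
  have hQ2 : Nat.card (sqHom hQc).ker ≤ 4 := by
    refine le_trans (Nat.card_le_card_of_injective
      (fun a => (⟨⟨(ψ a.1.1 : G), a.1.2⟩, ?_⟩ : {a : A // a ^ 2 = 1})) ?_) h2
    · apply Subtype.ext
      show ((ψ a.1.1 : Nn) : G) ^ 2 = 1
      have h := congrArg Subtype.val (MonoidHom.mem_ker.1 a.2)
      change (a.1.1) ^ 2 = 1 at h
      rw [← Subgroup.coe_pow, ← map_pow, h, map_one, Subgroup.coe_one]
    · intro a b h
      have h1 := congrArg (fun z : {a : A // a ^ 2 = 1} => ((z : A) : G)) h
      have h2 : c * ((a.1.1 : H) : G) * c⁻¹ = c * ((b.1.1 : H) : G) * c⁻¹ := h1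
      exact Subtype.ext (Subtype.ext (Subtype.ext (Subtype.ext (mul_left_cancel (mul_right_cancel h2)))))
  -- the image in `A₈`
  have hRidx : ¬ 2 ∣ ((R : Subgroup H).map φ).index := fun h =>
    R.not_dvd_index (h.trans (Subgroup.index_map_dvd _ hφ))
  obtain ⟨T, hT⟩ := (R.isPGroup'.map φ).exists_le_sylow
  have hTcard : ∀ T : Sylow 2 (alternatingGroup (Fin 8)),
      Nat.card (T : Subgroup (alternatingGroup (Fin 8))) = 64 := fun T => by
    rw [Sylow.card_eq_multiplicity, card_A8,
      show (20160 : ℕ).factorization 2 = 6 by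
        rw [Nat.factorization_def _ Nat.prime_two]
        simp only [show (20160 : ℕ) = 2 ^ 6 * 315 by norm_num]
        rw [padicValNat.mul (by norm_num) (by norm_num), padicValNat.prime_pow,
          padicValNat.eq_zero_of_not_dvd (by norm_num)]]
    norm_num
  have hRcard : Nat.card ((R : Subgroup H).map φ) = 64 := by
    obtain ⟨k, hk⟩ := IsPGroup.iff_card.1 (R.isPGroup'.map φ)
    have h := Subgroup.card_mul_index ((R : Subgroup H).map φ)
    rw [hk, card_A8] at h
    have h6 : 64 ∣ 2 ^ k * ((R : Subgroup H).map φ).index := ⟨315, h⟩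
    have hcop : Nat.Coprime 64 ((R : Subgroup H).map φ).index := by
      rw [show (64 : ℕ) = 2 ^ 6 by norm_num]
      exact Nat.Coprime.pow_left _ ((Nat.prime_two.coprime_iff_not_dvd).2 hRidx)
    have h1 : 64 ∣ 2 ^ k := hcop.dvd_of_dvd_mul_right h6
    have h2 : Nat.card ((R : Subgroup H).map φ) ≤ 64 := hTcard T ▸ Subgroup.card_le_of_le hT
    exact le_antisymm h2 (hk ▸ Nat.le_of_dvd (pow_pos two_pos _) h1)
  set f : (R : Subgroup H) →* (R : Subgroup H).map φ := φ.subgroupMap _ with hf
  have hfs : Function.Surjective f := φ.subgroupMap_surjective _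
  set B := Q.map f with hB
  have hBidx : B.index ≤ 4 :=
    (Nat.le_of_dvd (Nat.pos_of_ne_zero Subgroup.index_ne_zero_of_finite) (Subgroup.index_map_dvd _ hfs)).trans hQidx
  have hBcard : 16 ≤ Nat.card B := by
    have := Subgroup.card_mul_index B
    rw [hRcard] at this
    nlinarith
  have hBc : ∀ a ∈ B, ∀ b ∈ B, a * b = b * a := by
    rintro _ ⟨a, ha, rfl⟩ _ ⟨b, hb, rfl⟩
    rw [← map_mul, hQc a ha b hb, map_mul]
  have hB2 : Nat.card (sqHom hBc).ker ≤ 4 := by
    refine le_trans ?_ hQ2
    have h1 := Subgroup.card_mul_index (sqHom hBc).ker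
    have h2 := Subgroup.card_mul_index (sqHom hBc).range
    have h3 := Subgroup.card_mul_index (sqHom hQc).ker
    have h4 := Subgroup.card_mul_index (sqHom hQc).range
    rw [Subgroup.index_ker] at h1 h3
    set g := f.subgroupMap Q with hg
    have hd : (sqHom hBc).range.index ∣ (sqHom hQc).range.index := by
      have e : (sqHom hQc).range.map g = (sqHom hBc).range := by
        rw [MonoidHom.map_range]
        apply le_antisymm
        · rintro _ ⟨a, rfl⟩
          exact ⟨g a, (map_pow g a 2).symm⟩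
        · rintro _ ⟨b, rfl⟩
          obtain ⟨a, rfl⟩ := f.subgroupMap_surjective Q b
          exact ⟨a, map_pow g a 2⟩
      rw [← e]
      exact Subgroup.index_map_dvd _ (f.subgroupMap_surjective Q)
    have hle := Nat.le_of_dvd (Nat.pos_of_ne_zero Subgroup.index_ne_zero_of_finite) hd
    have e1 : Nat.card (sqHom hBc).ker = (sqHom hBc).range.index :=
      Nat.eq_of_mul_eq_mul_right (Nat.card_pos (α := (sqHom hBc).range))
        (h1.trans (h2.symm.trans (mul_comm _ _)))
    have e2 : Nat.card (sqHom hQc).ker = (sqHom hQc).range.index :=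
      Nat.eq_of_mul_eq_mul_right (Nat.card_pos (α := (sqHom hQc).range))
        (h3.trans (h4.symm.trans (mul_comm _ _)))
    omega
  -- into the explicit Sylow subgroup
  have hs : IsPGroup 2 syl8 := IsPGroup.of_card_dvd_pow (n := 6) (by rw [card_syl8]; norm_num)
  obtain ⟨T0, hT0⟩ := hs.exists_le_sylow
  have hT0eq : syl8 = T0 := Subgroup.eq_of_le_of_card_ge hT0 (by rw [hTcard, card_syl8])
  obtain ⟨d, hd⟩ := MulAction.exists_smul_eq (alternatingGroup (Fin 8)) T T0
  let ι : B →* alternatingGroup (Fin 8) := (MulAut.conj d).toMonoidHom.comp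
    (((R : Subgroup H).map φ).subtype.comp B.subtype)
  have hι : Function.Injective ι :=
    (MulAut.conj d).injective.comp (Subtype.val_injective.comp Subtype.val_injective)
  have hιmem : ∀ b : B, ∃ k < 64, ((ι b : alternatingGroup (Fin 8)) : Equiv.Perm (Fin 8)) = elt8 k := by
    intro b
    rw [← mem_syl8, hT0eq, ← hd, Sylow.coe_subgroup_smul]
    exact Subgroup.smul_mem_pointwise_smul _ (MulAut.conj d) _ (hT b.1.2)
  have hι' : ∀ b : B, ∀ n : ℕ, b ^ n = 1 ↔ ((ι b : alternatingGroup (Fin 8)) : Equiv.Perm (Fin 8)) ^ n = 1 := by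
    intro b n
    rw [← Subgroup.coe_pow, ← map_pow, OneMemClass.coe_eq_one, map_eq_one_iff ι hι]
  have hrange : (sqHom hBc).range ≤ (sqHom hBc).ker := by
    rintro _ ⟨b, rfl⟩
    show (b ^ 2) ^ 2 = 1
    rw [← pow_mul, hι']
    obtain ⟨k, hk, e⟩ := hιmem b
    rw [e]
    exact elt8_pow_four hk
  have h1 := Subgroup.card_mul_index (sqHom hBc).ker
  rw [Subgroup.index_ker] at h1
  have h2' := Subgroup.card_le_of_le hrange
  have hr4 : 4 ≤ Nat.card (sqHom hBc).range := by nlinarith
  obtain ⟨⟨u, a, rfl⟩, hu⟩ := @exists_ne _ (Finite.one_lt_card_iff_nontrivial.1 (by omega :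
    1 < Nat.card (sqHom hBc).range)) 1
  have hu1 : a ^ 2 ≠ 1 := fun h => hu (Subtype.ext h)
  obtain ⟨⟨w, b, rfl⟩, hw1, hw2⟩ : ∃ w : (sqHom hBc).range, w ≠ 1 ∧ w ≠ ⟨sqHom hBc a, a, rfl⟩ := by
    by_contra h
    push Not at h
    have hle : Nat.card (sqHom hBc).range ≤ Nat.card (Fin 2) := by
      refine Nat.card_le_card_of_surjective ![1, ⟨sqHom hBc a, a, rfl⟩] fun w => ?_
      by_cases hw : w = 1
      · exact ⟨0, hw.symm⟩
      · exact ⟨1, (h w hw).symm⟩
    rw [Nat.card_fin] at hle
    omega
  have hab := congrArg (fun z : B => ((ι z : alternatingGroup (Fin 8)) : Equiv.Perm (Fin 8)))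
    (show a * b = b * a from Subtype.ext (hBc _ a.2 _ b.2))
  simp only [map_mul, Subgroup.coe_mul] at hab
  obtain ⟨k, hk, ek⟩ := hιmem a
  obtain ⟨k', hk', ek'⟩ := hιmem b
  rw [ek, ek'] at hab
  rcases elt8_pairs hk hk' hab with h | h | h <;> simp only [← ek, ← ek'] at h
  · exact hu1 ((hι' a 2).2 ((sq _).trans h))
  · exact hw1 (Subtype.ext ((hι' b 2).2 ((sq _).trans h)))
  · refine hw2 (Subtype.ext ?_)
    show b ^ 2 = a ^ 2
    apply hι
    apply Subtype.ext
    rw [map_pow, map_pow, Subgroup.coe_pow, Subgroup.coe_pow, sq, sq]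
    exact h.symm

end Cfsg.Agent.AltSection
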